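import Cfsg.Agent.H330.GowSt
import Cfsg.Agent.H459.Gallery

/-!
# The Steinberg character of the extension of a group with a split (B,N)-pair by type preserving automorphisms
(helper470)

* `TB P z` : `z` normalises `B` and the minimal parabolic subgroups; `wt_eq` : it preserves the double cosets;
* `TP P` : the automorphisms `conj c * z`, `TB P z`;
* `sys` : the building with the action of a group `L` of type preserving automorphisms;
* `exists_st` : the extension of the Steinberg character to `L`.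
-/

set_option autoImplicit false
set_option linter.unusedSectionVars false

namespace Cfsg.Agent.H470.PiRad.CosetSys

open Cfsg Subgroup
open Cfsg.Agent.FixBN Cfsg.Agent.FixBN.OfBN Cfsg.Agent.Tits.OfBN Cfsg.Agent.LieExceptional.BNPairCore
open Cfsg.Agent.Tits.Core Cfsg.Agent.Tits.Core.Bldg Cfsg.Agent.Schreier.BNSch
open Cfsg.Agent.H459.Gallery (Iv)

variable {K : Type*} [Group K] [Finite K] {P : Cfsg.BNPair K}

/-- `z` normalises `B` and the minimal parabolic subgroups -/
def TB (P : Cfsg.BNPair K) (z : MulAut K) : Prop := Iv z P.B ∧ ∀ s ∈ P.S, Iv z (P.parabolic {s})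

theorem iv_mul {x y : MulAut K} {A : Subgroup K} (hx : Iv x A) (hy : Iv y A) : Iv (x * y) A :=
  fun a ha => hx _ (hy a ha)

theorem iv_inv {x : MulAut K} {A : Subgroup K} (hx : Iv x A) : Iv x⁻¹ A := by
  intro a ha
  have h1 : a ∈ A.map x.toMonoidHom := by rw [hx.map_eq]; exact ha
  obtain ⟨b, hb, rfl⟩ := h1
  have : x⁻¹ (x b) = b := MulAut.inv_apply_self _ x b
  show x⁻¹ (x b) ∈ A
  rw [this]; exact hb

theorem TB.mul {x y : MulAut K} (hx : TB P x) (hy : TB P y) : TB P (x * y) :=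
  ⟨iv_mul hx.1 hy.1, fun s hs => iv_mul (hx.2 s hs) (hy.2 s hs)⟩

theorem TB.inv {x : MulAut K} (hx : TB P x) : TB P x⁻¹ := ⟨iv_inv hx.1, fun s hs => iv_inv (hx.2 s hs)⟩

theorem TB.one : TB P (1 : MulAut K) := ⟨fun _ h => h, fun _ _ _ h => h⟩

theorem TB.conj {b : K} (hb : b ∈ P.B) : TB P (MulAut.conj b) :=
  ⟨fun a ha => mul_mem (mul_mem hb ha) (inv_mem hb), fun s _ a ha =>
    mul_mem (mul_mem (B_le_parabolic P _ hb) ha) (inv_mem (B_le_parabolic P _ hb))⟩

/-- `z (B s B) = B s B` -/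
theorem TB.mem_C_simple {z : MulAut K} (hz : TB P z) {s : K} (hs : s ∈ P.S) : z s ∈ C P s := by
  rcases mem_parabolic_singleton P hs (hz.2 s hs s (mem_parabolic_self P s)) with h | ⟨b, hb, c, hc, h⟩
  · exfalso
    apply not_mem_B P hs
    have h1 := iv_inv hz.1 _ h
    rwa [show z⁻¹ (z s) = s from MulAut.inv_apply_self _ z s] at h1
  · exact mem_C.2 ⟨b, hb, c, hc, h⟩

/-- **`z (B n B) = B n B`** -/
theorem TB.mem_C {z : MulAut K} (hz : TB P z) : ∀ (k : ℕ) {n : K}, n ∈ P.N → len P n = k → ∀ {g : K}, g ∈ C P n →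
    z g ∈ C P n := by
  intro k
  induction k with
  | zero =>
    intro n hn hk g hg
    rw [len_eq_zero_iff hn] at hk
    have h1 : g ∈ P.B := mem_B_of_mem_C hk hg
    have h2 : C P n = C P 1 := C_eq_of_rel (by rw [mul_one]; exact inv_mem hk)
    rw [h2]
    exact mem_C_one.2 (hz.1 g h1)
  | succ k ih =>
    intro n hn hk g hg
    obtain ⟨l, hl, hlS, hrel⟩ := exists_reduced (P := P) hn
    rcases l with _ | ⟨s, l⟩
    · rw [List.length_nil] at hl; omega
    have hs : s ∈ P.S := hlS s (by simp)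
    have hlS' : ∀ x ∈ l, x ∈ P.S := fun x hx => hlS x (by simp [hx])
    set m := l.prod with hm
    have hmN : m ∈ P.N := prod_mem_N hlS'
    rw [List.prod_cons, ← hm] at hrel
    have hn' : C P n = C P (s * m) := (C_eq_of_rel hrel).symm
    have hlen : len P n = len P (s * m) := (len_congr hrel).symm
    have h1 : len P m ≤ k := by
      have h0 := len_prod_le (P := P) hlS'
      rw [← hm] at h0
      rw [List.length_cons] at hl
      omega
    have h2 := len_mul_left_le (P := P) hs hmN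
    have h3 : len P m = k := by omega
    rw [hn'] at hg ⊢
    obtain ⟨b, hb, c, hc, rfl⟩ := LieExceptional.BNPairCore.mem_C.1 hg
    have h4 : z m ∈ C P m := ih hmN h3 (self_mem_C m)
    obtain ⟨b1, hb1, c1, hc1, h5⟩ := LieExceptional.BNPairCore.mem_C.1 (hz.mem_C_simple hs)
    obtain ⟨b2, hb2, c2, hc2, h6⟩ := LieExceptional.BNPairCore.mem_C.1 h4
    have h7 : z (b * (s * m) * c) = (z b * b1) * (s * (c1 * b2) * m) * (c2 * z c) := by
      rw [map_mul, map_mul, map_mul, h5, h6]
      group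
    rw [h7]
    refine mul_mem_C_right (mul_mem hc2 (hz.1 c hc)) (mul_mem_C_left (mul_mem (hz.1 b hb) hb1) ?_)
    exact mul_mem_C_of_le hs hmN (mul_mem hc1 hb2) (by omega)

theorem TB.wt_eq {z : MulAut K} (hz : TB P z) (g : K) : wt P (z g) = wt P g := by
  obtain ⟨n, hn⟩ := exists_mem_C P g
  rw [wt_of_mem P hn, wt_of_mem P (hz.mem_C _ n.2 rfl hn)]

/-- type preserving automorphisms -/
def TP (P : Cfsg.BNPair K) (a : MulAut K) : Prop := ∃ c : K, TB P ((MulAut.conj c)⁻¹ * a)

theorem TP.conj (k : K) : TP P (MulAut.conj k) := ⟨k, by rw [inv_mul_cancel]; exact TB.one⟩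

theorem conj_mul_eq (a : MulAut K) (k : K) : a * MulAut.conj k = MulAut.conj (a k) * a := by
  ext g
  simp [MulAut.mul_apply]

theorem TP.mul {a b : MulAut K} (ha : TP P a) (hb : TP P b) : TP P (a * b) := by
  obtain ⟨c, hc⟩ := ha
  obtain ⟨d, hd⟩ := hb
  refine ⟨a d * c, ?_⟩
  have h1 : (MulAut.conj (a d * c))⁻¹ * (a * b) = ((MulAut.conj c)⁻¹ * a) * ((MulAut.conj d)⁻¹ * b) := by
    have h2 := conj_mul_eq a d⁻¹
    rw [map_inv, map_inv, map_inv] at h2
    rw [map_mul, mul_inv_rev, mul_assoc, mul_assoc, ← mul_assoc (MulAut.conj (a d))⁻¹, ← h2]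
    group
  rw [h1]
  exact hc.mul hd

theorem TP.inv {a : MulAut K} (ha : TP P a) : TP P a⁻¹ := by
  obtain ⟨c, hc⟩ := ha
  refine ⟨(a⁻¹ c)⁻¹, ?_⟩
  have h1 : (MulAut.conj (a⁻¹ c)⁻¹)⁻¹ * a⁻¹ = ((MulAut.conj c)⁻¹ * a)⁻¹ := by
    rw [map_inv, inv_inv, mul_inv_rev, inv_inv, ← conj_mul_eq]
  rw [h1]
  exact hc.inv

theorem mem_B_of_conj {d : K} (h : ∀ b ∈ P.B, d * b * d⁻¹ ∈ P.B) : d ∈ P.B := by
  have h1 : P.B.map (MulAut.conj d).toMonoidHom = P.B := H459.Gallery.Iv.map_eq (x := MulAut.conj d) h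
  have h2 : d ∈ normalizer (P.B : Set K) := Subgroup.mem_normalizer_iff_map_conj_eq.2 h1
  have h3 := S0312.result P (J := ∅) (Set.empty_subset _)
  rw [parabolic_empty] at h3
  rwa [h3] at h2

theorem mem_B_of_TB {c d : K} {a : MulAut K} (hc : TB P ((MulAut.conj c)⁻¹ * a)) (hd : TB P ((MulAut.conj d)⁻¹ * a)) :
    c⁻¹ * d ∈ P.B := by
  have h1 := hc.mul hd.inv
  have h2 : (MulAut.conj c)⁻¹ * a * ((MulAut.conj d)⁻¹ * a)⁻¹ = MulAut.conj (c⁻¹ * d) := by
    rw [map_mul, map_inv]; group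
  rw [h2] at h1
  exact mem_B_of_conj h1.1

/-! ### The action on the chambers -/

variable (L : Subgroup (MulAut K)) (hL : ∀ a ∈ L, TP P a)

/-- the element `c` with `a (B) = c B c⁻¹` -/
noncomputable def cc (a : L) : K := (hL a a.2).choose

theorem cc_spec (a : L) : TB P ((MulAut.conj (cc L hL a))⁻¹ * (a : MulAut K)) := (hL a a.2).choose_spec

/-- the image of a chamber -/
noncomputable def act (a : L) (x : K ⧸ P.B) : K ⧸ P.B := QuotientGroup.mk ((a : MulAut K) x.out * cc L hL a)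

theorem act_mk (a : L) {c : K} (hc : TB P ((MulAut.conj c)⁻¹ * (a : MulAut K))) (g : K) :
    act L hL a (QuotientGroup.mk g) = QuotientGroup.mk ((a : MulAut K) g * c) := by
  obtain ⟨b, hb⟩ := QuotientGroup.mk_out_eq_mul P.B g
  unfold act
  rw [hb, mk_eq]
  have h1 : ((a : MulAut K) (g * (b : K)) * cc L hL a)⁻¹ * ((a : MulAut K) g * c) =
      ((cc L hL a)⁻¹ * (a : MulAut K) b * cc L hL a)⁻¹ * ((cc L hL a)⁻¹ * c) := by
    rw [map_mul]; group
  rw [h1]
  refine mul_mem (inv_mem ?_) (mem_B_of_TB (cc_spec L hL a) hc)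
  have h2 := (cc_spec L hL a).1 b b.2
  simpa [MulAut.mul_apply] using h2

/-- the action of `L` on the chambers -/
@[reducible] noncomputable def action : MulAction L (K ⧸ P.B) where
  smul a x := act L hL a x
  one_smul x := by
    induction x using QuotientGroup.induction_on with
    | _ g =>
    show act L hL 1 _ = _
    rw [act_mk L hL 1 (c := 1) (by rw [map_one]; exact TB.one)]
    simp
  mul_smul a b x := by
    induction x using QuotientGroup.induction_on with
    | _ g =>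
    show act L hL (a * b) _ = act L hL a (act L hL b _)
    have ha := cc_spec L hL a
    have hb := cc_spec L hL b
    have hab : TB P ((MulAut.conj ((a : MulAut K) (cc L hL b) * cc L hL a))⁻¹ * ((a * b : L) : MulAut K)) := by
      have h1 : (MulAut.conj ((a : MulAut K) (cc L hL b) * cc L hL a))⁻¹ * ((a * b : L) : MulAut K) =
          ((MulAut.conj (cc L hL a))⁻¹ * (a : MulAut K)) * ((MulAut.conj (cc L hL b))⁻¹ * (b : MulAut K)) := by
        have h2 := conj_mul_eq (a : MulAut K) (cc L hL b)⁻¹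
        rw [map_inv, map_inv, map_inv] at h2
        rw [map_mul, mul_inv_rev, mul_assoc, mul_assoc, Subgroup.coe_mul,
          ← mul_assoc (MulAut.conj ((a : MulAut K) (cc L hL b)))⁻¹, ← h2]
        group
      rw [h1]
      exact ha.mul hb
    rw [act_mk L hL _ hab, act_mk L hL b hb, act_mk L hL a ha]
    congr 1
    rw [Subgroup.coe_mul, MulAut.mul_apply, map_mul]
    group

theorem dist_act (a : L) (x y : K ⧸ P.B) : dist P (act L hL a x) (act L hL a y) = dist P x y := by
  induction x using QuotientGroup.induction_on with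
  | _ g =>
  induction y using QuotientGroup.induction_on with
  | _ h =>
  have ha := cc_spec L hL a
  rw [act_mk L hL a ha, act_mk L hL a ha, dist_mk, dist_mk, ← ha.wt_eq (g⁻¹ * h)]
  congr 1
  simp only [MulAut.mul_apply, map_mul, map_inv, MulAut.conj_inv_apply]
  group

theorem act_conj {k : K} (hk : MulAut.conj k ∈ L) (x : K ⧸ P.B) : act L hL ⟨MulAut.conj k, hk⟩ x = k • x := by
  induction x using QuotientGroup.induction_on with
  | _ g =>
  rw [act_mk L hL ⟨MulAut.conj k, hk⟩ (c := k) (by rw [inv_mul_cancel]; exact TB.one), smul_mk]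
  congr 1
  show k * g * k⁻¹ * k = k * g
  group

/-! ### The system -/

section

variable {p : ℕ} [Fact p.Prime] {U : Subgroup K} (S : Split P p U)
variable (hI : (MulAut.conj (G := K)).range ≤ L)
variable (hp : ∀ a ∈ L, (∃ k : ℕ, a ^ p ^ k = 1) → a ∈ (MulAut.conj (G := K)).range)

/-- the unipotent subgroup of a chamber -/
noncomputable def UL (x : K ⧸ P.B) : Subgroup L := ((UU P U x).map (MulAut.conj (G := K))).subgroupOf L

include S in
theorem conj_inj : Function.Injective (MulAut.conj (G := K)) := by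
  rw [injective_iff_map_eq_one]
  intro k hk
  have h1 : k ∈ P.B.normalCore := by
    intro g
    have h2 : k * g * k⁻¹ = g := by
      have := congrArg (fun z : MulAut K => z g) hk
      simpa using this
    have h3 : g * k * g⁻¹ = k := by
      rw [mul_inv_eq_iff_eq_mul] at h2 ⊢
      exact h2.symm
    rw [h3]
    refine mem_B_of_conj fun b hb => ?_
    have := congrArg (fun z : MulAut K => z b) hk
    have h4 : k * b * k⁻¹ = b := by simpa using this
    rwa [h4]
  rw [S.core] at h1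
  exact mem_bot.1 h1

include hI in
theorem mem_UL {x : K ⧸ P.B} {a : L} :
    a ∈ UL (U := U) L x ↔ ∃ k ∈ UU P U x, a = ⟨MulAut.conj k, hI ⟨k, rfl⟩⟩ := by
  constructor
  · intro h
    obtain ⟨k, hk, h1⟩ := mem_subgroupOf.1 h
    exact ⟨k, hk, Subtype.ext h1.symm⟩
  · rintro ⟨k, hk, rfl⟩
    exact mem_subgroupOf.2 ⟨k, hk, rfl⟩

section Coxeter

variable [hN : ((P.B ⊓ P.N).subgroupOf P.N).Normal]
variable {I : Type*} {M : CoxeterMatrix I} (e : I ≃ P.S) (cs : CoxeterSystem M (WP P))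
  (hcs : ∀ i, cs.simple i = QuotientGroup.mk (⟨(e i : K), P.subset (e i).2⟩ : P.N))

/-- **The system of `L`.** -/
noncomputable def sysL : @FixBN.Sys I M (WP P) _ cs (K ⧸ P.B) (bldg P e cs hcs) L _ (action L hL) p :=
  letI := action L hL
  have hsm : ∀ (k : K) (hk : MulAut.conj k ∈ L) (x : K ⧸ P.B), (⟨MulAut.conj k, hk⟩ : L) • x = k • x := fun k hk x =>
    act_conj L hL hk x
  have hpre' : ∀ V : Subgroup L, IsPGroup p V → ∃ V' : Subgroup K, IsPGroup p V' ∧
      (∀ v ∈ V, ∃ k ∈ V', v = ⟨MulAut.conj k, hI ⟨k, rfl⟩⟩) ∧ ∀ k ∈ V', (⟨MulAut.conj k, hI ⟨k, rfl⟩⟩ : L) ∈ V := by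
    intro V hV
    refine ⟨(V.map L.subtype).comap (MulAut.conj (G := K)), ?_, ?_, ?_⟩
    · exact (hV.map L.subtype).comap_of_injective _ (conj_inj S)
    · intro v hv
      obtain ⟨k, hk⟩ := hp v v.2 (by
        obtain ⟨j, hj⟩ := hV ⟨v, hv⟩
        refine ⟨j, ?_⟩
        have := congrArg (fun y : V => (((y : L)) : MulAut K)) hj
        simpa using this)
      refine ⟨k, ?_, Subtype.ext hk.symm⟩
      exact ⟨v, hv, hk.symm⟩
    · rintro k ⟨v, hv, hvk⟩
      have : (⟨MulAut.conj k, hI ⟨k, rfl⟩⟩ : L) = v := Subtype.ext hvk.symm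
      rw [this]
      exact hv
  { iso := fun a x y => dist_act L hL a x y
    U := UL (U := U) L
    fix := by
      intro x a ha
      obtain ⟨k, hk, rfl⟩ := (mem_UL L hI).1 ha
      rw [hsm]
      exact OfBN.fix S hk
    isP := fun x => ((OfBN.isP S x).map _).comap_subtype
    max := by
      intro x V hV h
      obtain ⟨V', hV', h1, h2⟩ := hpre' V hV
      intro v hv
      obtain ⟨k, hk, rfl⟩ := h1 v hv
      refine (mem_UL L hI).2 ⟨k, OfBN.max S x V' hV' (fun w hw => ?_) hk, rfl⟩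
      rw [← hsm w (hI ⟨w, rfl⟩)]
      exact h _ (h2 w hw)
    trans := by
      intro x y z h1 h2
      obtain ⟨u, hu, huy⟩ := OfBN.trans S (x := x) (y := y) (z := z) (h1.trans h2.symm)
      refine ⟨⟨MulAut.conj u, hI ⟨u, rfl⟩⟩, (mem_UL L hI).2 ⟨u, hu, rfl⟩, ?_⟩
      rw [hsm]
      exact huy
    free := by
      intro x y h a ha hay
      obtain ⟨k, hk, rfl⟩ := (mem_UL L hI).1 ha
      rw [hsm] at hay
      have h1 := OfBN.free e cs hcs S h hk hay
      apply Subtype.ext
      show MulAut.conj k = 1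
      rw [h1, map_one]
    pan := by
      intro x y i h a ha hay z hz
      obtain ⟨k, hk, rfl⟩ := (mem_UL L hI).1 ha
      rw [hsm] at hay ⊢
      exact OfBN.pan e cs hcs S h hk hay hz
    exists_fix := by
      intro V hV
      obtain ⟨V', hV', h1, -⟩ := hpre' V hV
      obtain ⟨x, hx⟩ := OfBN.exists_fix S V' hV'
      refine ⟨x, fun v hv => ?_⟩
      obtain ⟨k, hk, rfl⟩ := h1 v hv
      rw [hsm]
      exact hx k hk }

end Coxeter

include S hI hp hL in
/-- **The extension of the Steinberg character.** -/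
theorem exists_st : ∃ χ : L → ℂ, IsIrrCharacter L χ ∧ χ 1 = ((p ^ (Nat.card L).factorization p : ℕ) : ℂ) ∧
      ∀ g : L, ¬ p ∣ orderOf g →
        χ g = ((p ^ (Nat.card ↥(Subgroup.centralizer ({g} : Set L))).factorization p : ℕ) : ℂ) ∨
        χ g = -((p ^ (Nat.card ↥(Subgroup.centralizer ({g} : Set L))).factorization p : ℕ) : ℂ) := by
  classical
  have hN : ((P.B ⊓ P.N).subgroupOf P.N).Normal := Tits.OfBN.normal_subgroupOf P
  obtain ⟨M, cs, hcs⟩ := S0320.result P
  let _ := action L hL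
  have S' := sysL L hL S hI hp (Equiv.refl P.S) cs hcs
  have : Fintype (K ⧸ P.B) := Fintype.ofFinite _
  have : Finite P.S := inferInstance
  have : Fintype P.S := Fintype.ofFinite _
  refine H330.GowSt.exists_st S' (Tits.OfBN.thick P (Equiv.refl P.S) cs hcs) (fun x y => ?_)
    (QuotientGroup.mk 1)
  obtain ⟨k, hk⟩ := MulAction.exists_smul_eq K x y
  refine ⟨⟨MulAut.conj k, hI ⟨k, rfl⟩⟩, ?_⟩
  show act L hL _ x = y
  rw [act_conj, hk]

end

end Cfsg.Agent.H470.PiRad.CosetSys
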