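import Cfsg.Agent.H470.PiRad.CosetSt
import Cfsg.Agent.H470.PiRad.CosetSys
import Cfsg.Agent.H955.Pi.Gow
import Cfsg.Agent.H459.Iface

/-!
# S4324: automorphisms which normalise no `t`-subgroup (helper470)

`K` simple of Lie type in characteristic `t`, `x` an automorphism of prime order `≠ t` which normalises no nontrivial
`t`-subgroup (`¬ FixR t x`).  If `x` is type preserving (e.g. inner, or of order at least 5) or an involution, every
`t`-regular element of `K` lies in a group generated by two conjugates of `x` (Gow's theorem for the coset `K x`).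

* `inC_of_not_fixR`, `false_of_not_fixR`;
* `fixR_of_orderOf_eq` : an automorphism of order `t` normalises a Sylow `t`-subgroup.
-/

set_option autoImplicit false
set_option linter.unusedSectionVars false

namespace Cfsg.Agent.H470.PiRad.Ell

open Cfsg Subgroup Cfsg.Agent.H216.Pi
open Cfsg.Agent.H459.Iface (FixR)
open Cfsg.Agent.H459.Gallery (Iv)
open Cfsg.Agent.BpLieP.Big (conj_mul_eq conj_injective)

universe u

variable {K : Type u} [Group K] [Finite K]

theorem fixR_of_fixed {t : ℕ} [Fact t.Prime] {x : MulAut K} {u : K} (hu : orderOf u = t) (hx : x u ∈ zpowers u) :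
    FixR t x := by
  refine ⟨zpowers u, ?_, ?_, ?_⟩
  · intro h
    rw [zpowers_eq_bot] at h
    rw [h, orderOf_one] at hu
    exact (Fact.out : t.Prime).one_lt.ne hu
  · rw [IsPGroup.iff_card]
    exact ⟨1, by rw [Nat.card_zpowers, hu, pow_one]⟩
  · intro y hy
    obtain ⟨i, rfl⟩ := mem_zpowers_iff.1 hy
    rw [map_zpow]
    exact zpow_mem hx i

/-- **Gow's theorem for the coset `K x`.** -/
theorem inC_of_not_fixR {t : ℕ} (ht : t.Prime) (hL : IsLieTypeChar t K) {x : MulAut K} (hx : (orderOf x).Prime)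
    (hxt : orderOf x ≠ t)
    (hTP : (∃ (P : BNPair K) (U : Subgroup K), FixBN.Split P t U ∧ CosetSys.TP P x) ∨ orderOf x = 2)
    (hF : ¬ FixR t x) {z : K} (hz : ¬ t ∣ orderOf z) : H216.Pi.InC 2 x (MulAut.conj z) := by
  classical
  have : Fact t.Prime := ⟨ht⟩
  have : IsSimpleGroup K := H400.LieSimple.isSimple_of_lie hL
  by_cases hz1 : z = 1
  · refine ⟨fun _ => 1, ?_⟩
    rw [hz1, map_one]
    exact one_mem _
  have hZ : center K = ⊥ := H955.PiG.center_bot ht hL
  have hcinj := conj_injective hZ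
  have hxt' : ¬ t ∣ orderOf x := fun hd => hxt ((Nat.prime_dvd_prime_iff_eq ht hx).1 hd).symm
  -- the group `L = Inn(K) ⟨x⟩`
  obtain ⟨I, hI⟩ : ∃ I : Subgroup (MulAut K), I = (MulAut.conj (G := K)).range := ⟨_, rfl⟩
  have hIn : I.Normal := by
    rw [hI]
    refine ⟨fun y hy g => ?_⟩
    obtain ⟨s, rfl⟩ := hy
    exact ⟨g s, (conj_mul_eq g s).symm⟩
  obtain ⟨L, hL'⟩ : ∃ L : Subgroup (MulAut K), L = I ⊔ zpowers x := ⟨_, rfl⟩
  have hIL : I ≤ L := hL' ▸ le_sup_left
  have hxL : x ∈ L := hL' ▸ (le_sup_right (a := I)) (mem_zpowers x)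
  have hLcl : L ≤ closure ({x} ∪ Set.range (MulAut.conj : K → MulAut K)) := by
    rw [hL', hI]
    refine sup_le ?_ ?_
    · rintro _ ⟨k, rfl⟩
      exact subset_closure (Or.inr ⟨k, rfl⟩)
    · rw [zpowers_le]
      exact subset_closure (Or.inl rfl)
  let N : Subgroup L := I.subgroupOf L
  have hNn : N.Normal := hIn.subgroupOf L
  let τ : L := ⟨x, hxL⟩
  have hτ : orderOf τ = orderOf x := Subgroup.orderOf_mk x hxL
  let eN : K ≃* N := ((MonoidHom.ofInjective hcinj).trans (MulEquiv.subgroupCongr hI.symm)).trans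
    (subgroupOfEquivOfLe hIL).symm
  have heN : ∀ s : K, (((eN s : N) : L) : MulAut K) = MulAut.conj s := fun s => rfl
  have hgen : N ⊔ zpowers τ = ⊤ := by
    rw [eq_top_iff]
    rintro ⟨y, hy⟩ -
    have hy' := hy
    rw [hL'] at hy'
    have hy2 : y ∈ ((I ⊔ zpowers x : Subgroup (MulAut K)) : Set (MulAut K)) := hy'
    rw [normal_mul] at hy2
    obtain ⟨n, hn, w, hw, hnw⟩ := hy2
    obtain ⟨i, rfl⟩ := mem_zpowers_iff.1 hw
    have h1 : (⟨y, hy⟩ : L) = ⟨n, hIL hn⟩ * τ ^ i := by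
      apply Subtype.ext
      exact hnw.symm
    rw [h1]
    exact mul_mem (mem_sup_left (by exact hn)) (mem_sup_right (zpow_mem (mem_zpowers τ) i))
  -- a `t`-element of `L` is inner
  have hinn : ∀ c : L, (∃ k : ℕ, c ^ t ^ k = 1) → c ∈ N := by
    rintro c ⟨k, hk⟩
    obtain ⟨n, hn, i, hni⟩ := H836.CosetGow.exists_zpow N hgen c
    rw [← QuotientGroup.eq_one_iff, ← orderOf_eq_one_iff, ← Nat.dvd_one]
    have hcop : Nat.gcd (t ^ k) (orderOf τ) = 1 := by
      rw [hτ]
      exact Nat.Coprime.pow_left k ((Nat.Prime.coprime_iff_not_dvd ht).2 hxt')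
    rw [← hcop]
    refine Nat.dvd_gcd ?_ ?_
    · refine orderOf_dvd_of_pow_eq_one ?_
      rw [← QuotientGroup.mk_pow, hk, QuotientGroup.mk_one]
    · refine orderOf_dvd_of_pow_eq_one ?_
      rw [← hni, QuotientGroup.mk_mul, (QuotientGroup.eq_one_iff n).2 hn, one_mul, QuotientGroup.mk_zpow,
        ← zpow_natCast, ← zpow_mul, mul_comm, zpow_mul, zpow_natCast, ← QuotientGroup.mk_pow, pow_orderOf_eq_one,
        QuotientGroup.mk_one, one_zpow]
  have hinn' : ∀ c : L, (∃ k : ℕ, c ^ t ^ k = 1) → ∃ k : K, (c : MulAut K) = MulAut.conj k := by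
    intro c hc
    have h1 : (c : MulAut K) ∈ I := hinn c hc
    rw [hI] at h1
    obtain ⟨k, hk⟩ := h1
    exact ⟨k, hk.symm⟩
  have hC : ¬ t ∣ Nat.card ↥(centralizer ({τ} : Set L)) := by
    intro hd
    obtain ⟨c, hc⟩ := exists_prime_orderOf_dvd_card' t hd
    have hct := mem_centralizer_singleton_iff.1 c.2
    obtain ⟨s, hs⟩ := hinn' (c : L) ⟨1, by
      rw [pow_one, ← SubmonoidClass.coe_pow, ← hc, pow_orderOf_eq_one, OneMemClass.coe_one]⟩
    apply hF
    have hxs : x s = s := by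
      apply hcinj
      rw [← conj_mul_eq, ← hs]
      have h1 := congrArg (Subtype.val : L → MulAut K) hct
      have h2 : ((c : L) : MulAut K) * x = x * ((c : L) : MulAut K) := h1
      rw [← h2]
      group
    have hos : orderOf s = t := by
      rw [← orderOf_injective _ hcinj s, ← hs, orderOf_coe, orderOf_coe, hc]
    exact fixR_of_fixed hos (by rw [hxs]; exact mem_zpowers s)
  have hNlie : IsLieTypeChar t N := Cfsg.Agent.OddHalf.Known.isLieTypeChar_congr eN hL
  have hNs : IsSimpleGroup N := H400.LieSimple.isSimple_of_lie hNlie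
  have hS := H716.SplitAb.hasSplitAb_of_lie ht hNlie
  have hz' : eN z ≠ 1 := by rwa [Ne, map_eq_one_iff eN eN.injective]
  have hzr' : ¬ t ∣ orderOf (eN z) := by rwa [MulEquiv.orderOf_eq]
  have key : ∃ g h : L, g * τ⁻¹ * g⁻¹ * (h * τ * h⁻¹) = (eN z : N) := by
    rcases hTP with ⟨P, U, S, hTP⟩ | h2
    · -- type preserving
      have hLTP : ∀ a ∈ L, CosetSys.TP P a := by
        intro a ha
        rw [hL'] at ha
        have ha2 : a ∈ ((I ⊔ zpowers x : Subgroup (MulAut K)) : Set (MulAut K)) := ha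
        rw [normal_mul] at ha2
        obtain ⟨n, hn, w, hw, rfl⟩ := ha2
        rw [SetLike.mem_coe, hI] at hn
        obtain ⟨k, rfl⟩ := hn
        obtain ⟨i, rfl⟩ := mem_zpowers_iff.1 hw
        refine (CosetSys.TP.conj k).mul ?_
        have hnat : ∀ j : ℕ, CosetSys.TP P (x ^ j) := by
          intro j
          induction j with
          | zero =>
            rw [pow_zero, ← map_one (MulAut.conj (G := K))]
            exact CosetSys.TP.conj 1
          | succ j ih =>
            rw [pow_succ]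
            exact ih.mul hTP
        rcases i with j | j
        · simpa using hnat j
        · rw [zpow_negSucc]
          exact (hnat (j + 1)).inv
      have hIr : (MulAut.conj (G := K)).range ≤ L := hI ▸ hIL
      obtain ⟨χ, hχ, hχ1, hχv⟩ := CosetSys.exists_st L hLTP S hIr (fun a ha ⟨k, hk⟩ => by
        obtain ⟨w, hw⟩ := hinn' ⟨a, ha⟩ ⟨k, Subtype.ext hk⟩
        exact ⟨w, hw.symm⟩)
      have hidx : ¬ t ∣ N.index := by
        intro hd
        have h1 : t ∣ Nat.card (L ⧸ N) := hd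
        obtain ⟨c, hc⟩ := exists_prime_orderOf_dvd_card' t h1
        obtain ⟨y, rfl⟩ := QuotientGroup.mk_surjective c
        obtain ⟨n, hn, i, hni⟩ := H836.CosetGow.exists_zpow N hgen y
        have h2 : orderOf (QuotientGroup.mk y : L ⧸ N) ∣ orderOf x := by
          refine orderOf_dvd_of_pow_eq_one ?_
          rw [← hni, QuotientGroup.mk_mul, (QuotientGroup.eq_one_iff n).2 hn, one_mul, QuotientGroup.mk_zpow,
            ← zpow_natCast, ← zpow_mul, mul_comm, zpow_mul, zpow_natCast, ← QuotientGroup.mk_pow, ← hτ,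
            pow_orderOf_eq_one, QuotientGroup.mk_one, one_zpow]
        rw [hc] at h2
        exact hxt' h2
      have hfac : (Nat.card L).factorization t = (Nat.card N).factorization t := by
        have h1 := N.card_mul_index
        have hi0 : N.index ≠ 0 := Subgroup.index_ne_zero_of_finite
        rw [← h1, Nat.factorization_mul Nat.card_pos.ne' hi0, Finsupp.add_apply,
          Nat.factorization_eq_zero_of_not_dvd hidx, add_zero]
      have hval : χ τ = 1 ∨ χ τ = -1 := by
        have h0 : (Nat.card ↥(centralizer ({τ} : Set L))).factorization t = 0 :=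
          Nat.factorization_eq_zero_of_not_dvd hC
        have h1 := hχv τ (by rwa [hτ])
        rw [h0, pow_zero, Nat.cast_one] at h1
        exact h1
      exact CosetSt.coset_gow N hS (H330.Gow.locChar_of_lie hNlie)
        (H400.LieLocal.center_eq_bot (H330.Gow.hasSplit_of_ab hS))
        (H330.Gow.perfect_of_split (H330.Gow.hasSplit_of_ab hS)) hgen hidx hχ (by rw [hχ1, hfac]) hval hz' hzr'
    · -- involutions
      refine H836.CosetGow.coset_gow N hS (H330.Gow.locChar_of_lie hNlie)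
        (H400.LieLocal.center_eq_bot (H330.Gow.hasSplit_of_ab hS))
        (H330.Gow.perfect_of_split (H330.Gow.hasSplit_of_ab hS)) hgen hC ?_ hz' hzr'
      rintro g h ⟨k, hk⟩
      have hτ2 : τ * τ = 1 := by
        rw [← pow_two, ← h2, ← hτ, pow_orderOf_eq_one]
      have hτi : τ⁻¹ = τ := inv_eq_of_mul_eq_one_right hτ2
      -- `w = τ τ'`
      obtain ⟨w, hw⟩ : ∃ w, w = g⁻¹ * (g * τ⁻¹ * g⁻¹ * (h * τ * h⁻¹)) * g := ⟨_, rfl⟩
      have hwk : w ^ t ^ k = 1 := by
        have h3 : w = MulAut.conj g⁻¹ (g * τ⁻¹ * g⁻¹ * (h * τ * h⁻¹)) := by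
          rw [hw, MulAut.conj_apply, inv_inv]
        rw [h3, ← map_pow, hk, map_one]
      by_contra hne
      have hw1 : w ≠ 1 := by
        intro h3
        apply hne
        rw [hw] at h3
        have h4 : g * τ⁻¹ * g⁻¹ * (h * τ * h⁻¹) = g * (g⁻¹ * (g * τ⁻¹ * g⁻¹ * (h * τ * h⁻¹)) * g) * g⁻¹ := by group
        rw [h4, h3]; group
      -- a power of order `t`
      have hwinv : τ * w * τ⁻¹ = w⁻¹ := by
        rw [hw]
        have e1 : g⁻¹ * (g * τ⁻¹ * g⁻¹ * (h * τ * h⁻¹)) * g = τ⁻¹ * ((g⁻¹ * h) * τ * (g⁻¹ * h)⁻¹) := by group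
        rw [e1, hτi]
        have e2 : (τ * (g⁻¹ * h * τ * (g⁻¹ * h)⁻¹))⁻¹ = (g⁻¹ * h) * τ⁻¹ * (g⁻¹ * h)⁻¹ * τ⁻¹ := by group
        rw [e2, hτi]
        have e3 : τ * (τ * (g⁻¹ * h * τ * (g⁻¹ * h)⁻¹)) * τ = (τ * τ) * (g⁻¹ * h * τ * (g⁻¹ * h)⁻¹) * τ := by group
        rw [e3, hτ2, one_mul]
      have hdvd := orderOf_dvd_of_pow_eq_one hwk
      obtain ⟨j, -, hj⟩ := (Nat.dvd_prime_pow ht).1 hdvd
      have hj0 : j ≠ 0 := by
        rintro rfl
        rw [pow_zero] at hj
        exact hw1 (orderOf_eq_one_iff.1 hj)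
      obtain ⟨v, hv⟩ : ∃ v, v = w ^ t ^ (j - 1) := ⟨_, rfl⟩
      have hvo : orderOf v = t := by
        rw [hv, orderOf_pow_of_dvd (pow_ne_zero _ ht.ne_zero) (by rw [hj]; exact pow_dvd_pow t (Nat.sub_le j 1)), hj]
        exact Nat.div_eq_of_eq_mul_right (pow_pos ht.pos _) (by rw [← pow_succ]; congr 1; omega)
      have hvinv : τ * v * τ⁻¹ = v⁻¹ := by
        rw [hv, ← conj_pow, hwinv, inv_pow]
      obtain ⟨s, hs⟩ := hinn' v ⟨1, by rw [pow_one, ← hvo, pow_orderOf_eq_one]⟩
      have hxs : x s = s⁻¹ := by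
        apply hcinj
        rw [← conj_mul_eq, ← hs, map_inv, ← hs]
        exact congrArg (Subtype.val : L → MulAut K) hvinv
      have hos : orderOf s = t := by
        rw [← orderOf_injective _ hcinj s, ← hs, orderOf_coe, hvo]
      exact hF (fixR_of_fixed hos (by rw [hxs]; exact inv_mem (mem_zpowers s)))
  obtain ⟨g, h, hgh⟩ := key
  obtain ⟨k1, hk1⟩ := H955.PiG.exists_cj_of_mem (hLcl g.2)
  obtain ⟨k2, hk2⟩ := H955.PiG.exists_cj_of_mem (hLcl h.2)
  have h1 := congrArg (Subtype.val : L → MulAut K) hgh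
  rw [heN] at h1
  have h2 : (MulAut.conj z : MulAut K) = (H216.Pi.cj x k1)⁻¹ * H216.Pi.cj x k2 := by
    rw [← h1, ← hk1, ← hk2]
    simp only [MulMemClass.coe_mul, InvMemClass.coe_inv]
    show (g : MulAut K) * x⁻¹ * (g : MulAut K)⁻¹ * ((h : MulAut K) * x * (h : MulAut K)⁻¹) = _
    group
  refine ⟨![k1, k2], ?_⟩
  rw [h2]
  exact mul_mem (inv_mem (subset_closure ⟨0, rfl⟩)) (subset_closure ⟨1, rfl⟩)

/-- **An automorphism of prime order `≠ t` normalising no `t`-subgroup does not satisfy `FC s 2`.** -/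
theorem false_of_not_fixR {t s : ℕ} (ht : t.Prime) (hL : IsLieTypeChar t K) (hs : s.Prime) (hst : s ≠ t)
    (hsK : s ∣ Nat.card K) {x : MulAut K} (hx : (orderOf x).Prime) (hxt : orderOf x ≠ t)
    (hTP : (∃ (P : BNPair K) (U : Subgroup K), FixBN.Split P t U ∧ CosetSys.TP P x) ∨ orderOf x = 2)
    (hF : ¬ FixR t x) {m : ℕ} (hm : 2 ≤ m) (h : FC s m x) : False := by
  have : IsSimpleGroup K := H400.LieSimple.isSimple_of_lie hL
  have : Fact s.Prime := ⟨hs⟩
  obtain ⟨z, hz⟩ := exists_prime_orderOf_dvd_card' s hsK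
  have hzt : ¬ t ∣ orderOf z := by
    rw [hz]
    exact fun hd => hst ((Nat.prime_dvd_prime_iff_eq ht hs).1 hd).symm
  refine h _ ((inC_of_not_fixR ht hL hx hxt hTP hF hzt).mono hm) ?_
  rw [H955.PiG.orderOf_conj (H955.PiG.center_bot ht hL), hz]

end Cfsg.Agent.H470.PiRad.Ell
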