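import Cfsg.Agent.H470.PiRad.Dat

/-!
# S4324: orbit tables and indices, type E6 (helper470, generated)
-/

set_option autoImplicit false
set_option linter.unusedSectionVars false

namespace Cfsg.Agent.H470.PiRad.TabE6

open Cfsg Subgroup Cfsg.Agent.H470.PiRad.Mod Cfsg.Agent.H470.PiRad.Orb
open Cfsg.Agent.ChevalleyStructure.CoxeterGeom

/-- the Cartan matrix -/
def AL : List (List ℤ) := [[2, 0, -1, 0, 0, 0], [0, 2, 0, -1, 0, 0], [-1, 0, 2, -1, 0, 0], [0, -1, -1, 2, -1, 0], [0, 0, 0, -1, 2, -1], [0, 0, 0, 0, -1, 2]]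

/-- the exponents of the simple root groups -/
def cl : List ℕ := [1, 1, 1, 1, 1, 1]

variable {t q : ℕ} {M : CoxeterMatrix (Fin 6)}
    {A : Fin 6 → Fin 6 → ℤ} {h : IsCartan M A} {G : Type*} [Group G] {T : Subgroup G} {n : Fin 6 → G}
    {X : (Fin 6 → ℤ) → Subgroup G} (D : Dat t q AL cl h T n X)

/-- the orbit of the weight `5` under `W_{5}` -/
def t_5_5 : List Nd := [
  ⟨[0, 0, 0, 0, 0, 1], 0, 0, 0⟩, ⟨[0, 0, 0, 0, 1, -1], 1, 0, 5⟩]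

theorem ok_5_5 : orbOK 6 5 [5] cl AL t_5_5 = true := by decide +kernel

theorem S_5_5 (q : ℕ) : S q t_5_5 = 1 + q := by
  simp only [S, t_5_5, List.map_cons, List.map_nil, List.sum_cons, List.sum_nil]
  ring

theorem rel_5_5 [Finite G] : (D.par (∅ : Finset (Fin 6))).relIndex (D.par ({5} : Finset (Fin 6))) =
    1 + q := by
  rw [D.rel (k := 5) (JL := [5]) (L := t_5_5) ok_5_5 (by decide) (by decide) (by decide), S_5_5]

/-- the orbit of the weight `5` under `W_{4,5}` -/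
def t_45_5 : List Nd := [
  ⟨[0, 0, 0, 0, 0, 1], 0, 0, 0⟩, ⟨[0, 0, 0, 0, 1, -1], 1, 0, 5⟩, ⟨[0, 0, 0, 1, -1, 0], 2, 1, 4⟩]

theorem ok_45_5 : orbOK 6 5 [4, 5] cl AL t_45_5 = true := by decide +kernel

theorem S_45_5 (q : ℕ) : S q t_45_5 = 1 + q + q ^ 2 := by
  simp only [S, t_45_5, List.map_cons, List.map_nil, List.sum_cons, List.sum_nil]
  ring

theorem rel_45_5 [Finite G] : (D.par ({4} : Finset (Fin 6))).relIndex (D.par ({4, 5} : Finset (Fin 6))) =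
    1 + q + q ^ 2 := by
  rw [D.rel (k := 5) (JL := [4, 5]) (L := t_45_5) ok_45_5 (by decide) (by decide) (by decide), S_45_5]

/-- the orbit of the weight `5` under `W_{3,4,5}` -/
def t_345_5 : List Nd := [
  ⟨[0, 0, 0, 0, 0, 1], 0, 0, 0⟩, ⟨[0, 0, 0, 0, 1, -1], 1, 0, 5⟩, ⟨[0, 0, 0, 1, -1, 0], 2, 1, 4⟩,
  ⟨[0, 1, 1, -1, 0, 0], 3, 2, 3⟩]

theorem ok_345_5 : orbOK 6 5 [3, 4, 5] cl AL t_345_5 = true := by decide +kernel

theorem S_345_5 (q : ℕ) : S q t_345_5 = 1 + q + q ^ 2 + q ^ 3 := by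
  simp only [S, t_345_5, List.map_cons, List.map_nil, List.sum_cons, List.sum_nil]
  ring

theorem rel_345_5 [Finite G] : (D.par ({3, 4} : Finset (Fin 6))).relIndex (D.par ({3, 4, 5} : Finset (Fin 6))) =
    1 + q + q ^ 2 + q ^ 3 := by
  rw [D.rel (k := 5) (JL := [3, 4, 5]) (L := t_345_5) ok_345_5 (by decide) (by decide) (by decide), S_345_5]

/-- the orbit of the weight `0` under `W_{0}` -/
def t_0_0 : List Nd := [
  ⟨[1, 0, 0, 0, 0, 0], 0, 0, 0⟩, ⟨[-1, 0, 1, 0, 0, 0], 1, 0, 0⟩]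

theorem ok_0_0 : orbOK 6 0 [0] cl AL t_0_0 = true := by decide +kernel

theorem S_0_0 (q : ℕ) : S q t_0_0 = 1 + q := by
  simp only [S, t_0_0, List.map_cons, List.map_nil, List.sum_cons, List.sum_nil]
  ring

theorem rel_0_0 [Finite G] : (D.par (∅ : Finset (Fin 6))).relIndex (D.par ({0} : Finset (Fin 6))) =
    1 + q := by
  rw [D.rel (k := 0) (JL := [0]) (L := t_0_0) ok_0_0 (by decide) (by decide) (by decide), S_0_0]

/-- the orbit of the weight `0` under `W_{0,2}` -/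
def t_02_0 : List Nd := [
  ⟨[1, 0, 0, 0, 0, 0], 0, 0, 0⟩, ⟨[-1, 0, 1, 0, 0, 0], 1, 0, 0⟩, ⟨[0, 0, -1, 1, 0, 0], 2, 1, 2⟩]

theorem ok_02_0 : orbOK 6 0 [0, 2] cl AL t_02_0 = true := by decide +kernel

theorem S_02_0 (q : ℕ) : S q t_02_0 = 1 + q + q ^ 2 := by
  simp only [S, t_02_0, List.map_cons, List.map_nil, List.sum_cons, List.sum_nil]
  ring

theorem rel_02_0 [Finite G] : (D.par ({2} : Finset (Fin 6))).relIndex (D.par ({0, 2} : Finset (Fin 6))) =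
    1 + q + q ^ 2 := by
  rw [D.rel (k := 0) (JL := [0, 2]) (L := t_02_0) ok_02_0 (by decide) (by decide) (by decide), S_02_0]

/-- the orbit of the weight `0` under `W_{0,2,3}` -/
def t_023_0 : List Nd := [
  ⟨[1, 0, 0, 0, 0, 0], 0, 0, 0⟩, ⟨[-1, 0, 1, 0, 0, 0], 1, 0, 0⟩, ⟨[0, 0, -1, 1, 0, 0], 2, 1, 2⟩,
  ⟨[0, 1, 0, -1, 1, 0], 3, 2, 3⟩]

theorem ok_023_0 : orbOK 6 0 [0, 2, 3] cl AL t_023_0 = true := by decide +kernel

theorem S_023_0 (q : ℕ) : S q t_023_0 = 1 + q + q ^ 2 + q ^ 3 := by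
  simp only [S, t_023_0, List.map_cons, List.map_nil, List.sum_cons, List.sum_nil]
  ring

theorem rel_023_0 [Finite G] : (D.par ({2, 3} : Finset (Fin 6))).relIndex (D.par ({0, 2, 3} : Finset (Fin 6))) =
    1 + q + q ^ 2 + q ^ 3 := by
  rw [D.rel (k := 0) (JL := [0, 2, 3]) (L := t_023_0) ok_023_0 (by decide) (by decide) (by decide), S_023_0]

/-- the orbit of the weight `1` under `W_{1,2,3,4}` -/
def t_1234_1 : List Nd := [
  ⟨[0, 1, 0, 0, 0, 0], 0, 0, 0⟩, ⟨[0, -1, 0, 1, 0, 0], 1, 0, 1⟩, ⟨[0, 0, 1, -1, 1, 0], 2, 1, 3⟩,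
  ⟨[1, 0, -1, 0, 1, 0], 3, 2, 2⟩, ⟨[0, 0, 1, 0, -1, 1], 3, 2, 4⟩, ⟨[1, 0, -1, 1, -1, 1], 4, 3, 4⟩,
  ⟨[1, 1, 0, -1, 0, 1], 5, 5, 3⟩, ⟨[1, -1, 0, 0, 0, 1], 6, 6, 1⟩]

theorem ok_1234_1 : orbOK 6 1 [1, 2, 3, 4] cl AL t_1234_1 = true := by decide +kernel

theorem S_1234_1 (q : ℕ) : S q t_1234_1 = (1 + q ^ 3) * (1 + q + q ^ 2 + q ^ 3) := by
  simp only [S, t_1234_1, List.map_cons, List.map_nil, List.sum_cons, List.sum_nil]
  ring

theorem rel_1234_1 [Finite G] : (D.par ({2, 3, 4} : Finset (Fin 6))).relIndex (D.par ({1, 2, 3, 4} : Finset (Fin 6))) =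
    (1 + q ^ 3) * (1 + q + q ^ 2 + q ^ 3) := by
  rw [D.rel (k := 1) (JL := [1, 2, 3, 4]) (L := t_1234_1) ok_1234_1 (by decide) (by decide) (by decide), S_1234_1]

/-- the orbit of the weight `5` under `W_{0,2,3,4,5}` -/
def t_02345_5 : List Nd := [
  ⟨[0, 0, 0, 0, 0, 1], 0, 0, 0⟩, ⟨[0, 0, 0, 0, 1, -1], 1, 0, 5⟩, ⟨[0, 0, 0, 1, -1, 0], 2, 1, 4⟩,
  ⟨[0, 1, 1, -1, 0, 0], 3, 2, 3⟩, ⟨[1, 1, -1, 0, 0, 0], 4, 3, 2⟩, ⟨[-1, 1, 0, 0, 0, 0], 5, 4, 0⟩]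

theorem ok_02345_5 : orbOK 6 5 [0, 2, 3, 4, 5] cl AL t_02345_5 = true := by decide +kernel

theorem S_02345_5 (q : ℕ) : S q t_02345_5 = 1 + q + q ^ 2 + q ^ 3 + q ^ 4 + q ^ 5 := by
  simp only [S, t_02345_5, List.map_cons, List.map_nil, List.sum_cons, List.sum_nil]
  ring

theorem rel_02345_5 [Finite G] : (D.par ({0, 2, 3, 4} : Finset (Fin 6))).relIndex (D.par ({0, 2, 3, 4, 5} : Finset (Fin 6))) =
    1 + q + q ^ 2 + q ^ 3 + q ^ 4 + q ^ 5 := by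
  rw [D.rel (k := 5) (JL := [0, 2, 3, 4, 5]) (L := t_02345_5) ok_02345_5 (by decide) (by decide) (by decide), S_02345_5]

/-- the orbit of the weight `0` under `W_{0,1,3,4,5}` -/
def t_01345_0 : List Nd := [
  ⟨[1, 0, 0, 0, 0, 0], 0, 0, 0⟩, ⟨[-1, 0, 1, 0, 0, 0], 1, 0, 0⟩]

theorem ok_01345_0 : orbOK 6 0 [0, 1, 3, 4, 5] cl AL t_01345_0 = true := by decide +kernel

theorem S_01345_0 (q : ℕ) : S q t_01345_0 = 1 + q := by
  simp only [S, t_01345_0, List.map_cons, List.map_nil, List.sum_cons, List.sum_nil]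
  ring

theorem rel_01345_0 [Finite G] : (D.par ({1, 3, 4, 5} : Finset (Fin 6))).relIndex (D.par ({0, 1, 3, 4, 5} : Finset (Fin 6))) =
    1 + q := by
  rw [D.rel (k := 0) (JL := [0, 1, 3, 4, 5]) (L := t_01345_0) ok_01345_0 (by decide) (by decide) (by decide), S_01345_0]

/-- the orbit of the weight `5` under `W_{0,1,3,4,5}` -/
def t_01345_5 : List Nd := [
  ⟨[0, 0, 0, 0, 0, 1], 0, 0, 0⟩, ⟨[0, 0, 0, 0, 1, -1], 1, 0, 5⟩, ⟨[0, 0, 0, 1, -1, 0], 2, 1, 4⟩,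
  ⟨[0, 1, 1, -1, 0, 0], 3, 2, 3⟩, ⟨[0, -1, 1, 0, 0, 0], 4, 3, 1⟩]

theorem ok_01345_5 : orbOK 6 5 [0, 1, 3, 4, 5] cl AL t_01345_5 = true := by decide +kernel

theorem S_01345_5 (q : ℕ) : S q t_01345_5 = 1 + q + q ^ 2 + q ^ 3 + q ^ 4 := by
  simp only [S, t_01345_5, List.map_cons, List.map_nil, List.sum_cons, List.sum_nil]
  ring

theorem rel_01345_5 [Finite G] : (D.par ({0, 1, 3, 4} : Finset (Fin 6))).relIndex (D.par ({0, 1, 3, 4, 5} : Finset (Fin 6))) =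
    1 + q + q ^ 2 + q ^ 3 + q ^ 4 := by
  rw [D.rel (k := 5) (JL := [0, 1, 3, 4, 5]) (L := t_01345_5) ok_01345_5 (by decide) (by decide) (by decide), S_01345_5]

/-- the orbit of the weight `0` under `W_{0,1,2,3,5}` -/
def t_01235_0 : List Nd := [
  ⟨[1, 0, 0, 0, 0, 0], 0, 0, 0⟩, ⟨[-1, 0, 1, 0, 0, 0], 1, 0, 0⟩, ⟨[0, 0, -1, 1, 0, 0], 2, 1, 2⟩,
  ⟨[0, 1, 0, -1, 1, 0], 3, 2, 3⟩, ⟨[0, -1, 0, 0, 1, 0], 4, 3, 1⟩]

theorem ok_01235_0 : orbOK 6 0 [0, 1, 2, 3, 5] cl AL t_01235_0 = true := by decide +kernel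

theorem S_01235_0 (q : ℕ) : S q t_01235_0 = 1 + q + q ^ 2 + q ^ 3 + q ^ 4 := by
  simp only [S, t_01235_0, List.map_cons, List.map_nil, List.sum_cons, List.sum_nil]
  ring

theorem rel_01235_0 [Finite G] : (D.par ({1, 2, 3, 5} : Finset (Fin 6))).relIndex (D.par ({0, 1, 2, 3, 5} : Finset (Fin 6))) =
    1 + q + q ^ 2 + q ^ 3 + q ^ 4 := by
  rw [D.rel (k := 0) (JL := [0, 1, 2, 3, 5]) (L := t_01235_0) ok_01235_0 (by decide) (by decide) (by decide), S_01235_0]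

/-- the orbit of the weight `5` under `W_{0,1,2,3,5}` -/
def t_01235_5 : List Nd := [
  ⟨[0, 0, 0, 0, 0, 1], 0, 0, 0⟩, ⟨[0, 0, 0, 0, 1, -1], 1, 0, 5⟩]

theorem ok_01235_5 : orbOK 6 5 [0, 1, 2, 3, 5] cl AL t_01235_5 = true := by decide +kernel

theorem S_01235_5 (q : ℕ) : S q t_01235_5 = 1 + q := by
  simp only [S, t_01235_5, List.map_cons, List.map_nil, List.sum_cons, List.sum_nil]
  ring

theorem rel_01235_5 [Finite G] : (D.par ({0, 1, 2, 3} : Finset (Fin 6))).relIndex (D.par ({0, 1, 2, 3, 5} : Finset (Fin 6))) =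
    1 + q := by
  rw [D.rel (k := 5) (JL := [0, 1, 2, 3, 5]) (L := t_01235_5) ok_01235_5 (by decide) (by decide) (by decide), S_01235_5]

/-- the orbit of the weight `1` under `W_{0,1,2,4,5}` -/
def t_01245_1 : List Nd := [
  ⟨[0, 1, 0, 0, 0, 0], 0, 0, 0⟩, ⟨[0, -1, 0, 1, 0, 0], 1, 0, 1⟩]

theorem ok_01245_1 : orbOK 6 1 [0, 1, 2, 4, 5] cl AL t_01245_1 = true := by decide +kernel

theorem S_01245_1 (q : ℕ) : S q t_01245_1 = 1 + q := by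
  simp only [S, t_01245_1, List.map_cons, List.map_nil, List.sum_cons, List.sum_nil]
  ring

theorem rel_01245_1 [Finite G] : (D.par ({0, 2, 4, 5} : Finset (Fin 6))).relIndex (D.par ({0, 1, 2, 4, 5} : Finset (Fin 6))) =
    1 + q := by
  rw [D.rel (k := 1) (JL := [0, 1, 2, 4, 5]) (L := t_01245_1) ok_01245_1 (by decide) (by decide) (by decide), S_01245_1]

/-- the orbit of the weight `0` under `W_{0,1,2,4,5}` -/
def t_01245_0 : List Nd := [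
  ⟨[1, 0, 0, 0, 0, 0], 0, 0, 0⟩, ⟨[-1, 0, 1, 0, 0, 0], 1, 0, 0⟩, ⟨[0, 0, -1, 1, 0, 0], 2, 1, 2⟩]

theorem ok_01245_0 : orbOK 6 0 [0, 1, 2, 4, 5] cl AL t_01245_0 = true := by decide +kernel

theorem S_01245_0 (q : ℕ) : S q t_01245_0 = 1 + q + q ^ 2 := by
  simp only [S, t_01245_0, List.map_cons, List.map_nil, List.sum_cons, List.sum_nil]
  ring

theorem rel_01245_0 [Finite G] : (D.par ({1, 2, 4, 5} : Finset (Fin 6))).relIndex (D.par ({0, 1, 2, 4, 5} : Finset (Fin 6))) =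
    1 + q + q ^ 2 := by
  rw [D.rel (k := 0) (JL := [0, 1, 2, 4, 5]) (L := t_01245_0) ok_01245_0 (by decide) (by decide) (by decide), S_01245_0]

theorem cop_2 (q : ℕ) : Nat.Coprime (1 + q) (1 + q + q ^ 2 + q ^ 3 + q ^ 4) := by
  rw [← Nat.isCoprime_iff_coprime]
  push_cast
  refine ⟨(-1) * (q : ℤ) + (-1) * (q : ℤ) ^ 3, (1), ?_⟩
  ring

theorem cop_4 (q : ℕ) : Nat.Coprime (1 + q + q ^ 2 + q ^ 3 + q ^ 4) (1 + q) := by
  rw [← Nat.isCoprime_iff_coprime]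
  push_cast
  refine ⟨(1), (-1) * (q : ℤ) + (-1) * (q : ℤ) ^ 3, ?_⟩
  ring

theorem cop_3 (q : ℕ) : Nat.Coprime (1 + q) (1 + q + q ^ 2) := by
  rw [← Nat.isCoprime_iff_coprime]
  push_cast
  refine ⟨(-1) * (q : ℤ), (1), ?_⟩
  ring

end Cfsg.Agent.H470.PiRad.TabE6
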