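import Cfsg.Agent.H470.PiRad.Dat

/-!
# S4324: orbit tables and indices, type E7 (helper470, generated)
-/

set_option autoImplicit false
set_option linter.unusedSectionVars false

namespace Cfsg.Agent.H470.PiRad.TabE7

open Cfsg Subgroup Cfsg.Agent.H470.PiRad.Mod Cfsg.Agent.H470.PiRad.Orb
open Cfsg.Agent.ChevalleyStructure.CoxeterGeom

/-- the Cartan matrix -/
def AL : List (List ℤ) := [[2, 0, -1, 0, 0, 0, 0], [0, 2, 0, -1, 0, 0, 0], [-1, 0, 2, -1, 0, 0, 0], [0, -1, -1, 2, -1, 0, 0], [0, 0, 0, -1, 2, -1, 0], [0, 0, 0, 0, -1, 2, -1], [0, 0, 0, 0, 0, -1, 2]]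

/-- the exponents of the simple root groups -/
def cl : List ℕ := [1, 1, 1, 1, 1, 1, 1]

variable {t q : ℕ} {M : CoxeterMatrix (Fin 7)}
    {A : Fin 7 → Fin 7 → ℤ} {h : IsCartan M A} {G : Type*} [Group G] {T : Subgroup G} {n : Fin 7 → G}
    {X : (Fin 7 → ℤ) → Subgroup G} (D : Dat t q AL cl h T n X)

/-- the orbit of the weight `6` under `W_{6}` -/
def t_6_6 : List Nd := [
  ⟨[0, 0, 0, 0, 0, 0, 1], 0, 0, 0⟩, ⟨[0, 0, 0, 0, 0, 1, -1], 1, 0, 6⟩]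

theorem ok_6_6 : orbOK 7 6 [6] cl AL t_6_6 = true := by decide +kernel

theorem S_6_6 (q : ℕ) : S q t_6_6 = 1 + q := by
  simp only [S, t_6_6, List.map_cons, List.map_nil, List.sum_cons, List.sum_nil]
  ring

theorem rel_6_6 [Finite G] : (D.par (∅ : Finset (Fin 7))).relIndex (D.par ({6} : Finset (Fin 7))) =
    1 + q := by
  rw [D.rel (k := 6) (JL := [6]) (L := t_6_6) ok_6_6 (by decide) (by decide) (by decide), S_6_6]

/-- the orbit of the weight `6` under `W_{5,6}` -/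
def t_56_6 : List Nd := [
  ⟨[0, 0, 0, 0, 0, 0, 1], 0, 0, 0⟩, ⟨[0, 0, 0, 0, 0, 1, -1], 1, 0, 6⟩, ⟨[0, 0, 0, 0, 1, -1, 0], 2, 1, 5⟩]

theorem ok_56_6 : orbOK 7 6 [5, 6] cl AL t_56_6 = true := by decide +kernel

theorem S_56_6 (q : ℕ) : S q t_56_6 = 1 + q + q ^ 2 := by
  simp only [S, t_56_6, List.map_cons, List.map_nil, List.sum_cons, List.sum_nil]
  ring

theorem rel_56_6 [Finite G] : (D.par ({5} : Finset (Fin 7))).relIndex (D.par ({5, 6} : Finset (Fin 7))) =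
    1 + q + q ^ 2 := by
  rw [D.rel (k := 6) (JL := [5, 6]) (L := t_56_6) ok_56_6 (by decide) (by decide) (by decide), S_56_6]

/-- the orbit of the weight `6` under `W_{4,5,6}` -/
def t_456_6 : List Nd := [
  ⟨[0, 0, 0, 0, 0, 0, 1], 0, 0, 0⟩, ⟨[0, 0, 0, 0, 0, 1, -1], 1, 0, 6⟩, ⟨[0, 0, 0, 0, 1, -1, 0], 2, 1, 5⟩,
  ⟨[0, 0, 0, 1, -1, 0, 0], 3, 2, 4⟩]

theorem ok_456_6 : orbOK 7 6 [4, 5, 6] cl AL t_456_6 = true := by decide +kernel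

theorem S_456_6 (q : ℕ) : S q t_456_6 = 1 + q + q ^ 2 + q ^ 3 := by
  simp only [S, t_456_6, List.map_cons, List.map_nil, List.sum_cons, List.sum_nil]
  ring

theorem rel_456_6 [Finite G] : (D.par ({4, 5} : Finset (Fin 7))).relIndex (D.par ({4, 5, 6} : Finset (Fin 7))) =
    1 + q + q ^ 2 + q ^ 3 := by
  rw [D.rel (k := 6) (JL := [4, 5, 6]) (L := t_456_6) ok_456_6 (by decide) (by decide) (by decide), S_456_6]

/-- the orbit of the weight `6` under `W_{2,3,4,5,6}` -/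
def t_23456_6 : List Nd := [
  ⟨[0, 0, 0, 0, 0, 0, 1], 0, 0, 0⟩, ⟨[0, 0, 0, 0, 0, 1, -1], 1, 0, 6⟩, ⟨[0, 0, 0, 0, 1, -1, 0], 2, 1, 5⟩,
  ⟨[0, 0, 0, 1, -1, 0, 0], 3, 2, 4⟩, ⟨[0, 1, 1, -1, 0, 0, 0], 4, 3, 3⟩, ⟨[1, 1, -1, 0, 0, 0, 0], 5, 4, 2⟩]

theorem ok_23456_6 : orbOK 7 6 [2, 3, 4, 5, 6] cl AL t_23456_6 = true := by decide +kernel

theorem S_23456_6 (q : ℕ) : S q t_23456_6 = 1 + q + q ^ 2 + q ^ 3 + q ^ 4 + q ^ 5 := by
  simp only [S, t_23456_6, List.map_cons, List.map_nil, List.sum_cons, List.sum_nil]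
  ring

theorem rel_23456_6 [Finite G] : (D.par ({2, 3, 4, 5} : Finset (Fin 7))).relIndex (D.par ({2, 3, 4, 5, 6} : Finset (Fin 7))) =
    1 + q + q ^ 2 + q ^ 3 + q ^ 4 + q ^ 5 := by
  rw [D.rel (k := 6) (JL := [2, 3, 4, 5, 6]) (L := t_23456_6) ok_23456_6 (by decide) (by decide) (by decide), S_23456_6]

/-- the orbit of the weight `6` under `W_{1,3,4,5,6}` -/
def t_13456_6 : List Nd := [
  ⟨[0, 0, 0, 0, 0, 0, 1], 0, 0, 0⟩, ⟨[0, 0, 0, 0, 0, 1, -1], 1, 0, 6⟩, ⟨[0, 0, 0, 0, 1, -1, 0], 2, 1, 5⟩,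
  ⟨[0, 0, 0, 1, -1, 0, 0], 3, 2, 4⟩, ⟨[0, 1, 1, -1, 0, 0, 0], 4, 3, 3⟩, ⟨[0, -1, 1, 0, 0, 0, 0], 5, 4, 1⟩]

theorem ok_13456_6 : orbOK 7 6 [1, 3, 4, 5, 6] cl AL t_13456_6 = true := by decide +kernel

theorem S_13456_6 (q : ℕ) : S q t_13456_6 = 1 + q + q ^ 2 + q ^ 3 + q ^ 4 + q ^ 5 := by
  simp only [S, t_13456_6, List.map_cons, List.map_nil, List.sum_cons, List.sum_nil]
  ring

theorem rel_13456_6 [Finite G] : (D.par ({1, 3, 4, 5} : Finset (Fin 7))).relIndex (D.par ({1, 3, 4, 5, 6} : Finset (Fin 7))) =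
    1 + q + q ^ 2 + q ^ 3 + q ^ 4 + q ^ 5 := by
  rw [D.rel (k := 6) (JL := [1, 3, 4, 5, 6]) (L := t_13456_6) ok_13456_6 (by decide) (by decide) (by decide), S_13456_6]

/-- the orbit of the weight `0` under `W_{0}` -/
def t_0_0 : List Nd := [
  ⟨[1, 0, 0, 0, 0, 0, 0], 0, 0, 0⟩, ⟨[-1, 0, 1, 0, 0, 0, 0], 1, 0, 0⟩]

theorem ok_0_0 : orbOK 7 0 [0] cl AL t_0_0 = true := by decide +kernel

theorem S_0_0 (q : ℕ) : S q t_0_0 = 1 + q := by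
  simp only [S, t_0_0, List.map_cons, List.map_nil, List.sum_cons, List.sum_nil]
  ring

theorem rel_0_0 [Finite G] : (D.par (∅ : Finset (Fin 7))).relIndex (D.par ({0} : Finset (Fin 7))) =
    1 + q := by
  rw [D.rel (k := 0) (JL := [0]) (L := t_0_0) ok_0_0 (by decide) (by decide) (by decide), S_0_0]

/-- the orbit of the weight `0` under `W_{0,2}` -/
def t_02_0 : List Nd := [
  ⟨[1, 0, 0, 0, 0, 0, 0], 0, 0, 0⟩, ⟨[-1, 0, 1, 0, 0, 0, 0], 1, 0, 0⟩, ⟨[0, 0, -1, 1, 0, 0, 0], 2, 1, 2⟩]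

theorem ok_02_0 : orbOK 7 0 [0, 2] cl AL t_02_0 = true := by decide +kernel

theorem S_02_0 (q : ℕ) : S q t_02_0 = 1 + q + q ^ 2 := by
  simp only [S, t_02_0, List.map_cons, List.map_nil, List.sum_cons, List.sum_nil]
  ring

theorem rel_02_0 [Finite G] : (D.par ({2} : Finset (Fin 7))).relIndex (D.par ({0, 2} : Finset (Fin 7))) =
    1 + q + q ^ 2 := by
  rw [D.rel (k := 0) (JL := [0, 2]) (L := t_02_0) ok_02_0 (by decide) (by decide) (by decide), S_02_0]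

/-- the orbit of the weight `0` under `W_{0,2,3}` -/
def t_023_0 : List Nd := [
  ⟨[1, 0, 0, 0, 0, 0, 0], 0, 0, 0⟩, ⟨[-1, 0, 1, 0, 0, 0, 0], 1, 0, 0⟩, ⟨[0, 0, -1, 1, 0, 0, 0], 2, 1, 2⟩,
  ⟨[0, 1, 0, -1, 1, 0, 0], 3, 2, 3⟩]

theorem ok_023_0 : orbOK 7 0 [0, 2, 3] cl AL t_023_0 = true := by decide +kernel

theorem S_023_0 (q : ℕ) : S q t_023_0 = 1 + q + q ^ 2 + q ^ 3 := by
  simp only [S, t_023_0, List.map_cons, List.map_nil, List.sum_cons, List.sum_nil]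
  ring

theorem rel_023_0 [Finite G] : (D.par ({2, 3} : Finset (Fin 7))).relIndex (D.par ({0, 2, 3} : Finset (Fin 7))) =
    1 + q + q ^ 2 + q ^ 3 := by
  rw [D.rel (k := 0) (JL := [0, 2, 3]) (L := t_023_0) ok_023_0 (by decide) (by decide) (by decide), S_023_0]

/-- the orbit of the weight `0` under `W_{0,2,3,4,5}` -/
def t_02345_0 : List Nd := [
  ⟨[1, 0, 0, 0, 0, 0, 0], 0, 0, 0⟩, ⟨[-1, 0, 1, 0, 0, 0, 0], 1, 0, 0⟩, ⟨[0, 0, -1, 1, 0, 0, 0], 2, 1, 2⟩,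
  ⟨[0, 1, 0, -1, 1, 0, 0], 3, 2, 3⟩, ⟨[0, 1, 0, 0, -1, 1, 0], 4, 3, 4⟩, ⟨[0, 1, 0, 0, 0, -1, 1], 5, 4, 5⟩]

theorem ok_02345_0 : orbOK 7 0 [0, 2, 3, 4, 5] cl AL t_02345_0 = true := by decide +kernel

theorem S_02345_0 (q : ℕ) : S q t_02345_0 = 1 + q + q ^ 2 + q ^ 3 + q ^ 4 + q ^ 5 := by
  simp only [S, t_02345_0, List.map_cons, List.map_nil, List.sum_cons, List.sum_nil]
  ring

theorem rel_02345_0 [Finite G] : (D.par ({2, 3, 4, 5} : Finset (Fin 7))).relIndex (D.par ({0, 2, 3, 4, 5} : Finset (Fin 7))) =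
    1 + q + q ^ 2 + q ^ 3 + q ^ 4 + q ^ 5 := by
  rw [D.rel (k := 0) (JL := [0, 2, 3, 4, 5]) (L := t_02345_0) ok_02345_0 (by decide) (by decide) (by decide), S_02345_0]

/-- the orbit of the weight `1` under `W_{1,2,3,4}` -/
def t_1234_1 : List Nd := [
  ⟨[0, 1, 0, 0, 0, 0, 0], 0, 0, 0⟩, ⟨[0, -1, 0, 1, 0, 0, 0], 1, 0, 1⟩, ⟨[0, 0, 1, -1, 1, 0, 0], 2, 1, 3⟩,
  ⟨[1, 0, -1, 0, 1, 0, 0], 3, 2, 2⟩, ⟨[0, 0, 1, 0, -1, 1, 0], 3, 2, 4⟩, ⟨[1, 0, -1, 1, -1, 1, 0], 4, 3, 4⟩,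
  ⟨[1, 1, 0, -1, 0, 1, 0], 5, 5, 3⟩, ⟨[1, -1, 0, 0, 0, 1, 0], 6, 6, 1⟩]

theorem ok_1234_1 : orbOK 7 1 [1, 2, 3, 4] cl AL t_1234_1 = true := by decide +kernel

theorem S_1234_1 (q : ℕ) : S q t_1234_1 = (1 + q ^ 3) * (1 + q + q ^ 2 + q ^ 3) := by
  simp only [S, t_1234_1, List.map_cons, List.map_nil, List.sum_cons, List.sum_nil]
  ring

theorem rel_1234_1 [Finite G] : (D.par ({2, 3, 4} : Finset (Fin 7))).relIndex (D.par ({1, 2, 3, 4} : Finset (Fin 7))) =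
    (1 + q ^ 3) * (1 + q + q ^ 2 + q ^ 3) := by
  rw [D.rel (k := 1) (JL := [1, 2, 3, 4]) (L := t_1234_1) ok_1234_1 (by decide) (by decide) (by decide), S_1234_1]

/-- the orbit of the weight `0` under `W_{0,1,2,4,5,6}` -/
def t_012456_0 : List Nd := [
  ⟨[1, 0, 0, 0, 0, 0, 0], 0, 0, 0⟩, ⟨[-1, 0, 1, 0, 0, 0, 0], 1, 0, 0⟩, ⟨[0, 0, -1, 1, 0, 0, 0], 2, 1, 2⟩]

theorem ok_012456_0 : orbOK 7 0 [0, 1, 2, 4, 5, 6] cl AL t_012456_0 = true := by decide +kernel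

theorem S_012456_0 (q : ℕ) : S q t_012456_0 = 1 + q + q ^ 2 := by
  simp only [S, t_012456_0, List.map_cons, List.map_nil, List.sum_cons, List.sum_nil]
  ring

theorem rel_012456_0 [Finite G] : (D.par ({1, 2, 4, 5, 6} : Finset (Fin 7))).relIndex (D.par ({0, 1, 2, 4, 5, 6} : Finset (Fin 7))) =
    1 + q + q ^ 2 := by
  rw [D.rel (k := 0) (JL := [0, 1, 2, 4, 5, 6]) (L := t_012456_0) ok_012456_0 (by decide) (by decide) (by decide), S_012456_0]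

/-- the orbit of the weight `6` under `W_{0,1,2,4,5,6}` -/
def t_012456_6 : List Nd := [
  ⟨[0, 0, 0, 0, 0, 0, 1], 0, 0, 0⟩, ⟨[0, 0, 0, 0, 0, 1, -1], 1, 0, 6⟩, ⟨[0, 0, 0, 0, 1, -1, 0], 2, 1, 5⟩,
  ⟨[0, 0, 0, 1, -1, 0, 0], 3, 2, 4⟩]

theorem ok_012456_6 : orbOK 7 6 [0, 1, 2, 4, 5, 6] cl AL t_012456_6 = true := by decide +kernel

theorem S_012456_6 (q : ℕ) : S q t_012456_6 = 1 + q + q ^ 2 + q ^ 3 := by
  simp only [S, t_012456_6, List.map_cons, List.map_nil, List.sum_cons, List.sum_nil]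
  ring

theorem rel_012456_6 [Finite G] : (D.par ({0, 1, 2, 4, 5} : Finset (Fin 7))).relIndex (D.par ({0, 1, 2, 4, 5, 6} : Finset (Fin 7))) =
    1 + q + q ^ 2 + q ^ 3 := by
  rw [D.rel (k := 6) (JL := [0, 1, 2, 4, 5, 6]) (L := t_012456_6) ok_012456_6 (by decide) (by decide) (by decide), S_012456_6]

/-- the orbit of the weight `0` under `W_{0,1,2,3,5,6}` -/
def t_012356_0 : List Nd := [
  ⟨[1, 0, 0, 0, 0, 0, 0], 0, 0, 0⟩, ⟨[-1, 0, 1, 0, 0, 0, 0], 1, 0, 0⟩, ⟨[0, 0, -1, 1, 0, 0, 0], 2, 1, 2⟩,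
  ⟨[0, 1, 0, -1, 1, 0, 0], 3, 2, 3⟩, ⟨[0, -1, 0, 0, 1, 0, 0], 4, 3, 1⟩]

theorem ok_012356_0 : orbOK 7 0 [0, 1, 2, 3, 5, 6] cl AL t_012356_0 = true := by decide +kernel

theorem S_012356_0 (q : ℕ) : S q t_012356_0 = 1 + q + q ^ 2 + q ^ 3 + q ^ 4 := by
  simp only [S, t_012356_0, List.map_cons, List.map_nil, List.sum_cons, List.sum_nil]
  ring

theorem rel_012356_0 [Finite G] : (D.par ({1, 2, 3, 5, 6} : Finset (Fin 7))).relIndex (D.par ({0, 1, 2, 3, 5, 6} : Finset (Fin 7))) =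
    1 + q + q ^ 2 + q ^ 3 + q ^ 4 := by
  rw [D.rel (k := 0) (JL := [0, 1, 2, 3, 5, 6]) (L := t_012356_0) ok_012356_0 (by decide) (by decide) (by decide), S_012356_0]

/-- the orbit of the weight `6` under `W_{0,1,2,3,5,6}` -/
def t_012356_6 : List Nd := [
  ⟨[0, 0, 0, 0, 0, 0, 1], 0, 0, 0⟩, ⟨[0, 0, 0, 0, 0, 1, -1], 1, 0, 6⟩, ⟨[0, 0, 0, 0, 1, -1, 0], 2, 1, 5⟩]

theorem ok_012356_6 : orbOK 7 6 [0, 1, 2, 3, 5, 6] cl AL t_012356_6 = true := by decide +kernel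

theorem S_012356_6 (q : ℕ) : S q t_012356_6 = 1 + q + q ^ 2 := by
  simp only [S, t_012356_6, List.map_cons, List.map_nil, List.sum_cons, List.sum_nil]
  ring

theorem rel_012356_6 [Finite G] : (D.par ({0, 1, 2, 3, 5} : Finset (Fin 7))).relIndex (D.par ({0, 1, 2, 3, 5, 6} : Finset (Fin 7))) =
    1 + q + q ^ 2 := by
  rw [D.rel (k := 6) (JL := [0, 1, 2, 3, 5, 6]) (L := t_012356_6) ok_012356_6 (by decide) (by decide) (by decide), S_012356_6]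

theorem cop_3 (q : ℕ) : Nat.Coprime (1 + q + q ^ 2) (1 + q + q ^ 2 + q ^ 3) := by
  rw [← Nat.isCoprime_iff_coprime]
  push_cast
  refine ⟨(-1) * (q : ℤ), (1), ?_⟩
  ring

theorem cop_4 (q : ℕ) : Nat.Coprime (1 + q + q ^ 2 + q ^ 3 + q ^ 4) (1 + q + q ^ 2) := by
  rw [← Nat.isCoprime_iff_coprime]
  push_cast
  refine ⟨(-1) * (q : ℤ), (1) + (1) * (q : ℤ) ^ 3, ?_⟩
  ring

end Cfsg.Agent.H470.PiRad.TabE7
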