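import Cfsg.Agent.H470.PiRad.Dat

/-!
# S4324: orbit tables and indices, type E8 (helper470, generated)
-/

set_option autoImplicit false
set_option linter.unusedSectionVars false

namespace Cfsg.Agent.H470.PiRad.TabE8

open Cfsg Subgroup Cfsg.Agent.H470.PiRad.Mod Cfsg.Agent.H470.PiRad.Orb
open Cfsg.Agent.ChevalleyStructure.CoxeterGeom

/-- the Cartan matrix -/
def AL : List (List ℤ) := [[2, 0, -1, 0, 0, 0, 0, 0], [0, 2, 0, -1, 0, 0, 0, 0], [-1, 0, 2, -1, 0, 0, 0, 0], [0, -1, -1, 2, -1, 0, 0, 0], [0, 0, 0, -1, 2, -1, 0, 0], [0, 0, 0, 0, -1, 2, -1, 0], [0, 0, 0, 0, 0, -1, 2, -1], [0, 0, 0, 0, 0, 0, -1, 2]]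

/-- the exponents of the simple root groups -/
def cl : List ℕ := [1, 1, 1, 1, 1, 1, 1, 1]

variable {t q : ℕ} {M : CoxeterMatrix (Fin 8)}
    {A : Fin 8 → Fin 8 → ℤ} {h : IsCartan M A} {G : Type*} [Group G] {T : Subgroup G} {n : Fin 8 → G}
    {X : (Fin 8 → ℤ) → Subgroup G} (D : Dat t q AL cl h T n X)

/-- the orbit of the weight `7` under `W_{7}` -/
def t_7_7 : List Nd := [
  ⟨[0, 0, 0, 0, 0, 0, 0, 1], 0, 0, 0⟩, ⟨[0, 0, 0, 0, 0, 0, 1, -1], 1, 0, 7⟩]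

theorem ok_7_7 : orbOK 8 7 [7] cl AL t_7_7 = true := by decide +kernel

theorem S_7_7 (q : ℕ) : S q t_7_7 = 1 + q := by
  simp only [S, t_7_7, List.map_cons, List.map_nil, List.sum_cons, List.sum_nil]
  ring

theorem rel_7_7 [Finite G] : (D.par (∅ : Finset (Fin 8))).relIndex (D.par ({7} : Finset (Fin 8))) =
    1 + q := by
  rw [D.rel (k := 7) (JL := [7]) (L := t_7_7) ok_7_7 (by decide) (by decide) (by decide), S_7_7]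

/-- the orbit of the weight `7` under `W_{6,7}` -/
def t_67_7 : List Nd := [
  ⟨[0, 0, 0, 0, 0, 0, 0, 1], 0, 0, 0⟩, ⟨[0, 0, 0, 0, 0, 0, 1, -1], 1, 0, 7⟩,
  ⟨[0, 0, 0, 0, 0, 1, -1, 0], 2, 1, 6⟩]

theorem ok_67_7 : orbOK 8 7 [6, 7] cl AL t_67_7 = true := by decide +kernel

theorem S_67_7 (q : ℕ) : S q t_67_7 = 1 + q + q ^ 2 := by
  simp only [S, t_67_7, List.map_cons, List.map_nil, List.sum_cons, List.sum_nil]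
  ring

theorem rel_67_7 [Finite G] : (D.par ({6} : Finset (Fin 8))).relIndex (D.par ({6, 7} : Finset (Fin 8))) =
    1 + q + q ^ 2 := by
  rw [D.rel (k := 7) (JL := [6, 7]) (L := t_67_7) ok_67_7 (by decide) (by decide) (by decide), S_67_7]

/-- the orbit of the weight `7` under `W_{5,6,7}` -/
def t_567_7 : List Nd := [
  ⟨[0, 0, 0, 0, 0, 0, 0, 1], 0, 0, 0⟩, ⟨[0, 0, 0, 0, 0, 0, 1, -1], 1, 0, 7⟩,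
  ⟨[0, 0, 0, 0, 0, 1, -1, 0], 2, 1, 6⟩, ⟨[0, 0, 0, 0, 1, -1, 0, 0], 3, 2, 5⟩]

theorem ok_567_7 : orbOK 8 7 [5, 6, 7] cl AL t_567_7 = true := by decide +kernel

theorem S_567_7 (q : ℕ) : S q t_567_7 = 1 + q + q ^ 2 + q ^ 3 := by
  simp only [S, t_567_7, List.map_cons, List.map_nil, List.sum_cons, List.sum_nil]
  ring

theorem rel_567_7 [Finite G] : (D.par ({5, 6} : Finset (Fin 8))).relIndex (D.par ({5, 6, 7} : Finset (Fin 8))) =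
    1 + q + q ^ 2 + q ^ 3 := by
  rw [D.rel (k := 7) (JL := [5, 6, 7]) (L := t_567_7) ok_567_7 (by decide) (by decide) (by decide), S_567_7]

/-- the orbit of the weight `7` under `W_{4,5,6,7}` -/
def t_4567_7 : List Nd := [
  ⟨[0, 0, 0, 0, 0, 0, 0, 1], 0, 0, 0⟩, ⟨[0, 0, 0, 0, 0, 0, 1, -1], 1, 0, 7⟩,
  ⟨[0, 0, 0, 0, 0, 1, -1, 0], 2, 1, 6⟩, ⟨[0, 0, 0, 0, 1, -1, 0, 0], 3, 2, 5⟩,
  ⟨[0, 0, 0, 1, -1, 0, 0, 0], 4, 3, 4⟩]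

theorem ok_4567_7 : orbOK 8 7 [4, 5, 6, 7] cl AL t_4567_7 = true := by decide +kernel

theorem S_4567_7 (q : ℕ) : S q t_4567_7 = 1 + q + q ^ 2 + q ^ 3 + q ^ 4 := by
  simp only [S, t_4567_7, List.map_cons, List.map_nil, List.sum_cons, List.sum_nil]
  ring

theorem rel_4567_7 [Finite G] : (D.par ({4, 5, 6} : Finset (Fin 8))).relIndex (D.par ({4, 5, 6, 7} : Finset (Fin 8))) =
    1 + q + q ^ 2 + q ^ 3 + q ^ 4 := by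
  rw [D.rel (k := 7) (JL := [4, 5, 6, 7]) (L := t_4567_7) ok_4567_7 (by decide) (by decide) (by decide), S_4567_7]

/-- the orbit of the weight `7` under `W_{3,4,5,6,7}` -/
def t_34567_7 : List Nd := [
  ⟨[0, 0, 0, 0, 0, 0, 0, 1], 0, 0, 0⟩, ⟨[0, 0, 0, 0, 0, 0, 1, -1], 1, 0, 7⟩,
  ⟨[0, 0, 0, 0, 0, 1, -1, 0], 2, 1, 6⟩, ⟨[0, 0, 0, 0, 1, -1, 0, 0], 3, 2, 5⟩,
  ⟨[0, 0, 0, 1, -1, 0, 0, 0], 4, 3, 4⟩, ⟨[0, 1, 1, -1, 0, 0, 0, 0], 5, 4, 3⟩]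

theorem ok_34567_7 : orbOK 8 7 [3, 4, 5, 6, 7] cl AL t_34567_7 = true := by decide +kernel

theorem S_34567_7 (q : ℕ) : S q t_34567_7 = 1 + q + q ^ 2 + q ^ 3 + q ^ 4 + q ^ 5 := by
  simp only [S, t_34567_7, List.map_cons, List.map_nil, List.sum_cons, List.sum_nil]
  ring

theorem rel_34567_7 [Finite G] : (D.par ({3, 4, 5, 6} : Finset (Fin 8))).relIndex (D.par ({3, 4, 5, 6, 7} : Finset (Fin 8))) =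
    1 + q + q ^ 2 + q ^ 3 + q ^ 4 + q ^ 5 := by
  rw [D.rel (k := 7) (JL := [3, 4, 5, 6, 7]) (L := t_34567_7) ok_34567_7 (by decide) (by decide) (by decide), S_34567_7]

/-- the orbit of the weight `0` under `W_{0}` -/
def t_0_0 : List Nd := [
  ⟨[1, 0, 0, 0, 0, 0, 0, 0], 0, 0, 0⟩, ⟨[-1, 0, 1, 0, 0, 0, 0, 0], 1, 0, 0⟩]

theorem ok_0_0 : orbOK 8 0 [0] cl AL t_0_0 = true := by decide +kernel

theorem S_0_0 (q : ℕ) : S q t_0_0 = 1 + q := by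
  simp only [S, t_0_0, List.map_cons, List.map_nil, List.sum_cons, List.sum_nil]
  ring

theorem rel_0_0 [Finite G] : (D.par (∅ : Finset (Fin 8))).relIndex (D.par ({0} : Finset (Fin 8))) =
    1 + q := by
  rw [D.rel (k := 0) (JL := [0]) (L := t_0_0) ok_0_0 (by decide) (by decide) (by decide), S_0_0]

/-- the orbit of the weight `0` under `W_{0,2}` -/
def t_02_0 : List Nd := [
  ⟨[1, 0, 0, 0, 0, 0, 0, 0], 0, 0, 0⟩, ⟨[-1, 0, 1, 0, 0, 0, 0, 0], 1, 0, 0⟩,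
  ⟨[0, 0, -1, 1, 0, 0, 0, 0], 2, 1, 2⟩]

theorem ok_02_0 : orbOK 8 0 [0, 2] cl AL t_02_0 = true := by decide +kernel

theorem S_02_0 (q : ℕ) : S q t_02_0 = 1 + q + q ^ 2 := by
  simp only [S, t_02_0, List.map_cons, List.map_nil, List.sum_cons, List.sum_nil]
  ring

theorem rel_02_0 [Finite G] : (D.par ({2} : Finset (Fin 8))).relIndex (D.par ({0, 2} : Finset (Fin 8))) =
    1 + q + q ^ 2 := by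
  rw [D.rel (k := 0) (JL := [0, 2]) (L := t_02_0) ok_02_0 (by decide) (by decide) (by decide), S_02_0]

/-- the orbit of the weight `0` under `W_{0,2,3}` -/
def t_023_0 : List Nd := [
  ⟨[1, 0, 0, 0, 0, 0, 0, 0], 0, 0, 0⟩, ⟨[-1, 0, 1, 0, 0, 0, 0, 0], 1, 0, 0⟩,
  ⟨[0, 0, -1, 1, 0, 0, 0, 0], 2, 1, 2⟩, ⟨[0, 1, 0, -1, 1, 0, 0, 0], 3, 2, 3⟩]

theorem ok_023_0 : orbOK 8 0 [0, 2, 3] cl AL t_023_0 = true := by decide +kernel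

theorem S_023_0 (q : ℕ) : S q t_023_0 = 1 + q + q ^ 2 + q ^ 3 := by
  simp only [S, t_023_0, List.map_cons, List.map_nil, List.sum_cons, List.sum_nil]
  ring

theorem rel_023_0 [Finite G] : (D.par ({2, 3} : Finset (Fin 8))).relIndex (D.par ({0, 2, 3} : Finset (Fin 8))) =
    1 + q + q ^ 2 + q ^ 3 := by
  rw [D.rel (k := 0) (JL := [0, 2, 3]) (L := t_023_0) ok_023_0 (by decide) (by decide) (by decide), S_023_0]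

/-- the orbit of the weight `0` under `W_{0,1,2,3}` -/
def t_0123_0 : List Nd := [
  ⟨[1, 0, 0, 0, 0, 0, 0, 0], 0, 0, 0⟩, ⟨[-1, 0, 1, 0, 0, 0, 0, 0], 1, 0, 0⟩,
  ⟨[0, 0, -1, 1, 0, 0, 0, 0], 2, 1, 2⟩, ⟨[0, 1, 0, -1, 1, 0, 0, 0], 3, 2, 3⟩,
  ⟨[0, -1, 0, 0, 1, 0, 0, 0], 4, 3, 1⟩]

theorem ok_0123_0 : orbOK 8 0 [0, 1, 2, 3] cl AL t_0123_0 = true := by decide +kernel

theorem S_0123_0 (q : ℕ) : S q t_0123_0 = 1 + q + q ^ 2 + q ^ 3 + q ^ 4 := by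
  simp only [S, t_0123_0, List.map_cons, List.map_nil, List.sum_cons, List.sum_nil]
  ring

theorem rel_0123_0 [Finite G] : (D.par ({1, 2, 3} : Finset (Fin 8))).relIndex (D.par ({0, 1, 2, 3} : Finset (Fin 8))) =
    1 + q + q ^ 2 + q ^ 3 + q ^ 4 := by
  rw [D.rel (k := 0) (JL := [0, 1, 2, 3]) (L := t_0123_0) ok_0123_0 (by decide) (by decide) (by decide), S_0123_0]

/-- the orbit of the weight `1` under `W_{1,2,3,4}` -/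
def t_1234_1 : List Nd := [
  ⟨[0, 1, 0, 0, 0, 0, 0, 0], 0, 0, 0⟩, ⟨[0, -1, 0, 1, 0, 0, 0, 0], 1, 0, 1⟩,
  ⟨[0, 0, 1, -1, 1, 0, 0, 0], 2, 1, 3⟩, ⟨[1, 0, -1, 0, 1, 0, 0, 0], 3, 2, 2⟩,
  ⟨[0, 0, 1, 0, -1, 1, 0, 0], 3, 2, 4⟩, ⟨[1, 0, -1, 1, -1, 1, 0, 0], 4, 3, 4⟩,
  ⟨[1, 1, 0, -1, 0, 1, 0, 0], 5, 5, 3⟩, ⟨[1, -1, 0, 0, 0, 1, 0, 0], 6, 6, 1⟩]

theorem ok_1234_1 : orbOK 8 1 [1, 2, 3, 4] cl AL t_1234_1 = true := by decide +kernel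

theorem S_1234_1 (q : ℕ) : S q t_1234_1 = (1 + q ^ 3) * (1 + q + q ^ 2 + q ^ 3) := by
  simp only [S, t_1234_1, List.map_cons, List.map_nil, List.sum_cons, List.sum_nil]
  ring

theorem rel_1234_1 [Finite G] : (D.par ({2, 3, 4} : Finset (Fin 8))).relIndex (D.par ({1, 2, 3, 4} : Finset (Fin 8))) =
    (1 + q ^ 3) * (1 + q + q ^ 2 + q ^ 3) := by
  rw [D.rel (k := 1) (JL := [1, 2, 3, 4]) (L := t_1234_1) ok_1234_1 (by decide) (by decide) (by decide), S_1234_1]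

/-- the orbit of the weight `0` under `W_{0,1,2,3,4}` -/
def t_01234_0 : List Nd := [
  ⟨[1, 0, 0, 0, 0, 0, 0, 0], 0, 0, 0⟩, ⟨[-1, 0, 1, 0, 0, 0, 0, 0], 1, 0, 0⟩,
  ⟨[0, 0, -1, 1, 0, 0, 0, 0], 2, 1, 2⟩, ⟨[0, 1, 0, -1, 1, 0, 0, 0], 3, 2, 3⟩,
  ⟨[0, -1, 0, 0, 1, 0, 0, 0], 4, 3, 1⟩, ⟨[0, 1, 0, 0, -1, 1, 0, 0], 4, 3, 4⟩,
  ⟨[0, -1, 0, 1, -1, 1, 0, 0], 5, 4, 4⟩, ⟨[0, 0, 1, -1, 0, 1, 0, 0], 6, 6, 3⟩,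
  ⟨[1, 0, -1, 0, 0, 1, 0, 0], 7, 7, 2⟩, ⟨[-1, 0, 0, 0, 0, 1, 0, 0], 8, 8, 0⟩]

theorem ok_01234_0 : orbOK 8 0 [0, 1, 2, 3, 4] cl AL t_01234_0 = true := by decide +kernel

theorem S_01234_0 (q : ℕ) : S q t_01234_0 = (1 + q ^ 4) * (1 + q + q ^ 2 + q ^ 3 + q ^ 4) := by
  simp only [S, t_01234_0, List.map_cons, List.map_nil, List.sum_cons, List.sum_nil]
  ring

theorem rel_01234_0 [Finite G] : (D.par ({1, 2, 3, 4} : Finset (Fin 8))).relIndex (D.par ({0, 1, 2, 3, 4} : Finset (Fin 8))) =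
    (1 + q ^ 4) * (1 + q + q ^ 2 + q ^ 3 + q ^ 4) := by
  rw [D.rel (k := 0) (JL := [0, 1, 2, 3, 4]) (L := t_01234_0) ok_01234_0 (by decide) (by decide) (by decide), S_01234_0]

/-- the orbit of the weight `5` under `W_{1,2,3,4,5}` -/
def t_12345_5 : List Nd := [
  ⟨[0, 0, 0, 0, 0, 1, 0, 0], 0, 0, 0⟩, ⟨[0, 0, 0, 0, 1, -1, 1, 0], 1, 0, 5⟩,
  ⟨[0, 0, 0, 1, -1, 0, 1, 0], 2, 1, 4⟩, ⟨[0, 1, 1, -1, 0, 0, 1, 0], 3, 2, 3⟩,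
  ⟨[0, -1, 1, 0, 0, 0, 1, 0], 4, 3, 1⟩, ⟨[1, 1, -1, 0, 0, 0, 1, 0], 4, 3, 2⟩,
  ⟨[1, -1, -1, 1, 0, 0, 1, 0], 5, 4, 2⟩, ⟨[1, 0, 0, -1, 1, 0, 1, 0], 6, 6, 3⟩,
  ⟨[1, 0, 0, 0, -1, 1, 1, 0], 7, 7, 4⟩, ⟨[1, 0, 0, 0, 0, -1, 2, 0], 8, 8, 5⟩]

theorem ok_12345_5 : orbOK 8 5 [1, 2, 3, 4, 5] cl AL t_12345_5 = true := by decide +kernel

theorem S_12345_5 (q : ℕ) : S q t_12345_5 = (1 + q ^ 4) * (1 + q + q ^ 2 + q ^ 3 + q ^ 4) := by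
  simp only [S, t_12345_5, List.map_cons, List.map_nil, List.sum_cons, List.sum_nil]
  ring

theorem rel_12345_5 [Finite G] : (D.par ({1, 2, 3, 4} : Finset (Fin 8))).relIndex (D.par ({1, 2, 3, 4, 5} : Finset (Fin 8))) =
    (1 + q ^ 4) * (1 + q + q ^ 2 + q ^ 3 + q ^ 4) := by
  rw [D.rel (k := 5) (JL := [1, 2, 3, 4, 5]) (L := t_12345_5) ok_12345_5 (by decide) (by decide) (by decide), S_12345_5]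

/-- the orbit of the weight `6` under `W_{1,2,3,4,5,6}` -/
def t_123456_6 : List Nd := [
  ⟨[0, 0, 0, 0, 0, 0, 1, 0], 0, 0, 0⟩, ⟨[0, 0, 0, 0, 0, 1, -1, 1], 1, 0, 6⟩,
  ⟨[0, 0, 0, 0, 1, -1, 0, 1], 2, 1, 5⟩, ⟨[0, 0, 0, 1, -1, 0, 0, 1], 3, 2, 4⟩,
  ⟨[0, 1, 1, -1, 0, 0, 0, 1], 4, 3, 3⟩, ⟨[0, -1, 1, 0, 0, 0, 0, 1], 5, 4, 1⟩,
  ⟨[1, 1, -1, 0, 0, 0, 0, 1], 5, 4, 2⟩, ⟨[1, -1, -1, 1, 0, 0, 0, 1], 6, 5, 2⟩,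
  ⟨[1, 0, 0, -1, 1, 0, 0, 1], 7, 7, 3⟩, ⟨[1, 0, 0, 0, -1, 1, 0, 1], 8, 8, 4⟩,
  ⟨[1, 0, 0, 0, 0, -1, 1, 1], 9, 9, 5⟩, ⟨[1, 0, 0, 0, 0, 0, -1, 2], 10, 10, 6⟩]

theorem ok_123456_6 : orbOK 8 6 [1, 2, 3, 4, 5, 6] cl AL t_123456_6 = true := by decide +kernel

theorem S_123456_6 (q : ℕ) : S q t_123456_6 = (1 + q ^ 5) * (1 + q + q ^ 2 + q ^ 3 + q ^ 4 + q ^ 5) := by
  simp only [S, t_123456_6, List.map_cons, List.map_nil, List.sum_cons, List.sum_nil]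
  ring

theorem rel_123456_6 [Finite G] : (D.par ({1, 2, 3, 4, 5} : Finset (Fin 8))).relIndex (D.par ({1, 2, 3, 4, 5, 6} : Finset (Fin 8))) =
    (1 + q ^ 5) * (1 + q + q ^ 2 + q ^ 3 + q ^ 4 + q ^ 5) := by
  rw [D.rel (k := 6) (JL := [1, 2, 3, 4, 5, 6]) (L := t_123456_6) ok_123456_6 (by decide) (by decide) (by decide), S_123456_6]

/-- the orbit of the weight `7` under `W_{1,2,3,4,5,6,7}` -/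
def t_1234567_7 : List Nd := [
  ⟨[0, 0, 0, 0, 0, 0, 0, 1], 0, 0, 0⟩, ⟨[0, 0, 0, 0, 0, 0, 1, -1], 1, 0, 7⟩,
  ⟨[0, 0, 0, 0, 0, 1, -1, 0], 2, 1, 6⟩, ⟨[0, 0, 0, 0, 1, -1, 0, 0], 3, 2, 5⟩,
  ⟨[0, 0, 0, 1, -1, 0, 0, 0], 4, 3, 4⟩, ⟨[0, 1, 1, -1, 0, 0, 0, 0], 5, 4, 3⟩,
  ⟨[0, -1, 1, 0, 0, 0, 0, 0], 6, 5, 1⟩, ⟨[1, 1, -1, 0, 0, 0, 0, 0], 6, 5, 2⟩,
  ⟨[1, -1, -1, 1, 0, 0, 0, 0], 7, 6, 2⟩, ⟨[1, 0, 0, -1, 1, 0, 0, 0], 8, 8, 3⟩,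
  ⟨[1, 0, 0, 0, -1, 1, 0, 0], 9, 9, 4⟩, ⟨[1, 0, 0, 0, 0, -1, 1, 0], 10, 10, 5⟩,
  ⟨[1, 0, 0, 0, 0, 0, -1, 1], 11, 11, 6⟩, ⟨[1, 0, 0, 0, 0, 0, 0, -1], 12, 12, 7⟩]

theorem ok_1234567_7 : orbOK 8 7 [1, 2, 3, 4, 5, 6, 7] cl AL t_1234567_7 = true := by decide +kernel

theorem S_1234567_7 (q : ℕ) : S q t_1234567_7 = (1 + q ^ 6) * (1 + q + q ^ 2 + q ^ 3 + q ^ 4 + q ^ 5 + q ^ 6) := by
  simp only [S, t_1234567_7, List.map_cons, List.map_nil, List.sum_cons, List.sum_nil]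
  ring

theorem rel_1234567_7 [Finite G] : (D.par ({1, 2, 3, 4, 5, 6} : Finset (Fin 8))).relIndex (D.par ({1, 2, 3, 4, 5, 6, 7} : Finset (Fin 8))) =
    (1 + q ^ 6) * (1 + q + q ^ 2 + q ^ 3 + q ^ 4 + q ^ 5 + q ^ 6) := by
  rw [D.rel (k := 7) (JL := [1, 2, 3, 4, 5, 6, 7]) (L := t_1234567_7) ok_1234567_7 (by decide) (by decide) (by decide), S_1234567_7]

/-- the orbit of the weight `0` under `W_{0,1,2,3,4,5}` -/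
def t_012345_0 : List Nd := [
  ⟨[1, 0, 0, 0, 0, 0, 0, 0], 0, 0, 0⟩, ⟨[-1, 0, 1, 0, 0, 0, 0, 0], 1, 0, 0⟩,
  ⟨[0, 0, -1, 1, 0, 0, 0, 0], 2, 1, 2⟩, ⟨[0, 1, 0, -1, 1, 0, 0, 0], 3, 2, 3⟩,
  ⟨[0, -1, 0, 0, 1, 0, 0, 0], 4, 3, 1⟩, ⟨[0, 1, 0, 0, -1, 1, 0, 0], 4, 3, 4⟩,
  ⟨[0, -1, 0, 1, -1, 1, 0, 0], 5, 4, 4⟩, ⟨[0, 1, 0, 0, 0, -1, 1, 0], 5, 5, 5⟩,
  ⟨[0, 0, 1, -1, 0, 1, 0, 0], 6, 6, 3⟩, ⟨[0, -1, 0, 1, 0, -1, 1, 0], 6, 6, 5⟩,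
  ⟨[1, 0, -1, 0, 0, 1, 0, 0], 7, 8, 2⟩, ⟨[0, 0, 1, -1, 1, -1, 1, 0], 7, 8, 5⟩,
  ⟨[-1, 0, 0, 0, 0, 1, 0, 0], 8, 10, 0⟩, ⟨[1, 0, -1, 0, 1, -1, 1, 0], 8, 10, 5⟩,
  ⟨[0, 0, 1, 0, -1, 0, 1, 0], 8, 11, 4⟩, ⟨[-1, 0, 0, 0, 1, -1, 1, 0], 9, 12, 5⟩,
  ⟨[1, 0, -1, 1, -1, 0, 1, 0], 9, 13, 4⟩, ⟨[-1, 0, 0, 1, -1, 0, 1, 0], 10, 15, 4⟩,
  ⟨[1, 1, 0, -1, 0, 0, 1, 0], 10, 16, 3⟩, ⟨[-1, 1, 1, -1, 0, 0, 1, 0], 11, 17, 3⟩,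
  ⟨[1, -1, 0, 0, 0, 0, 1, 0], 11, 18, 1⟩, ⟨[-1, -1, 1, 0, 0, 0, 1, 0], 12, 19, 1⟩,
  ⟨[0, 1, -1, 0, 0, 0, 1, 0], 12, 19, 2⟩, ⟨[0, -1, -1, 1, 0, 0, 1, 0], 13, 21, 2⟩,
  ⟨[0, 0, 0, -1, 1, 0, 1, 0], 14, 23, 3⟩, ⟨[0, 0, 0, 0, -1, 1, 1, 0], 15, 24, 4⟩,
  ⟨[0, 0, 0, 0, 0, -1, 2, 0], 16, 25, 5⟩]

theorem ok_012345_0 : orbOK 8 0 [0, 1, 2, 3, 4, 5] cl AL t_012345_0 = true := by decide +kernel

theorem S_012345_0 (q : ℕ) : S q t_012345_0 = (1 + q ^ 4 + q ^ 8) * (1 + q + q ^ 2 + q ^ 3 + q ^ 4 + q ^ 5 + q ^ 6 + q ^ 7 + q ^ 8) := by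
  simp only [S, t_012345_0, List.map_cons, List.map_nil, List.sum_cons, List.sum_nil]
  ring

theorem rel_012345_0 [Finite G] : (D.par ({1, 2, 3, 4, 5} : Finset (Fin 8))).relIndex (D.par ({0, 1, 2, 3, 4, 5} : Finset (Fin 8))) =
    (1 + q ^ 4 + q ^ 8) * (1 + q + q ^ 2 + q ^ 3 + q ^ 4 + q ^ 5 + q ^ 6 + q ^ 7 + q ^ 8) := by
  rw [D.rel (k := 0) (JL := [0, 1, 2, 3, 4, 5]) (L := t_012345_0) ok_012345_0 (by decide) (by decide) (by decide), S_012345_0]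

/-- the orbit of the weight `7` under `W_{0,2,3,4,5,6,7}` -/
def t_0234567_7 : List Nd := [
  ⟨[0, 0, 0, 0, 0, 0, 0, 1], 0, 0, 0⟩, ⟨[0, 0, 0, 0, 0, 0, 1, -1], 1, 0, 7⟩,
  ⟨[0, 0, 0, 0, 0, 1, -1, 0], 2, 1, 6⟩, ⟨[0, 0, 0, 0, 1, -1, 0, 0], 3, 2, 5⟩,
  ⟨[0, 0, 0, 1, -1, 0, 0, 0], 4, 3, 4⟩, ⟨[0, 1, 1, -1, 0, 0, 0, 0], 5, 4, 3⟩,
  ⟨[1, 1, -1, 0, 0, 0, 0, 0], 6, 5, 2⟩, ⟨[-1, 1, 0, 0, 0, 0, 0, 0], 7, 6, 0⟩]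

theorem ok_0234567_7 : orbOK 8 7 [0, 2, 3, 4, 5, 6, 7] cl AL t_0234567_7 = true := by decide +kernel

theorem S_0234567_7 (q : ℕ) : S q t_0234567_7 = 1 + q + q ^ 2 + q ^ 3 + q ^ 4 + q ^ 5 + q ^ 6 + q ^ 7 := by
  simp only [S, t_0234567_7, List.map_cons, List.map_nil, List.sum_cons, List.sum_nil]
  ring

theorem rel_0234567_7 [Finite G] : (D.par ({0, 2, 3, 4, 5, 6} : Finset (Fin 8))).relIndex (D.par ({0, 2, 3, 4, 5, 6, 7} : Finset (Fin 8))) =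
    1 + q + q ^ 2 + q ^ 3 + q ^ 4 + q ^ 5 + q ^ 6 + q ^ 7 := by
  rw [D.rel (k := 7) (JL := [0, 2, 3, 4, 5, 6, 7]) (L := t_0234567_7) ok_0234567_7 (by decide) (by decide) (by decide), S_0234567_7]

/-- the orbit of the weight `0` under `W_{0,1,3,4,5,6,7}` -/
def t_0134567_0 : List Nd := [
  ⟨[1, 0, 0, 0, 0, 0, 0, 0], 0, 0, 0⟩, ⟨[-1, 0, 1, 0, 0, 0, 0, 0], 1, 0, 0⟩]

theorem ok_0134567_0 : orbOK 8 0 [0, 1, 3, 4, 5, 6, 7] cl AL t_0134567_0 = true := by decide +kernel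

theorem S_0134567_0 (q : ℕ) : S q t_0134567_0 = 1 + q := by
  simp only [S, t_0134567_0, List.map_cons, List.map_nil, List.sum_cons, List.sum_nil]
  ring

theorem rel_0134567_0 [Finite G] : (D.par ({1, 3, 4, 5, 6, 7} : Finset (Fin 8))).relIndex (D.par ({0, 1, 3, 4, 5, 6, 7} : Finset (Fin 8))) =
    1 + q := by
  rw [D.rel (k := 0) (JL := [0, 1, 3, 4, 5, 6, 7]) (L := t_0134567_0) ok_0134567_0 (by decide) (by decide) (by decide), S_0134567_0]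

/-- the orbit of the weight `7` under `W_{0,1,3,4,5,6,7}` -/
def t_0134567_7 : List Nd := [
  ⟨[0, 0, 0, 0, 0, 0, 0, 1], 0, 0, 0⟩, ⟨[0, 0, 0, 0, 0, 0, 1, -1], 1, 0, 7⟩,
  ⟨[0, 0, 0, 0, 0, 1, -1, 0], 2, 1, 6⟩, ⟨[0, 0, 0, 0, 1, -1, 0, 0], 3, 2, 5⟩,
  ⟨[0, 0, 0, 1, -1, 0, 0, 0], 4, 3, 4⟩, ⟨[0, 1, 1, -1, 0, 0, 0, 0], 5, 4, 3⟩,
  ⟨[0, -1, 1, 0, 0, 0, 0, 0], 6, 5, 1⟩]

theorem ok_0134567_7 : orbOK 8 7 [0, 1, 3, 4, 5, 6, 7] cl AL t_0134567_7 = true := by decide +kernel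

theorem S_0134567_7 (q : ℕ) : S q t_0134567_7 = 1 + q + q ^ 2 + q ^ 3 + q ^ 4 + q ^ 5 + q ^ 6 := by
  simp only [S, t_0134567_7, List.map_cons, List.map_nil, List.sum_cons, List.sum_nil]
  ring

theorem rel_0134567_7 [Finite G] : (D.par ({0, 1, 3, 4, 5, 6} : Finset (Fin 8))).relIndex (D.par ({0, 1, 3, 4, 5, 6, 7} : Finset (Fin 8))) =
    1 + q + q ^ 2 + q ^ 3 + q ^ 4 + q ^ 5 + q ^ 6 := by
  rw [D.rel (k := 7) (JL := [0, 1, 3, 4, 5, 6, 7]) (L := t_0134567_7) ok_0134567_7 (by decide) (by decide) (by decide), S_0134567_7]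

/-- the orbit of the weight `0` under `W_{0,1,2,4,5,6,7}` -/
def t_0124567_0 : List Nd := [
  ⟨[1, 0, 0, 0, 0, 0, 0, 0], 0, 0, 0⟩, ⟨[-1, 0, 1, 0, 0, 0, 0, 0], 1, 0, 0⟩,
  ⟨[0, 0, -1, 1, 0, 0, 0, 0], 2, 1, 2⟩]

theorem ok_0124567_0 : orbOK 8 0 [0, 1, 2, 4, 5, 6, 7] cl AL t_0124567_0 = true := by decide +kernel

theorem S_0124567_0 (q : ℕ) : S q t_0124567_0 = 1 + q + q ^ 2 := by
  simp only [S, t_0124567_0, List.map_cons, List.map_nil, List.sum_cons, List.sum_nil]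
  ring

theorem rel_0124567_0 [Finite G] : (D.par ({1, 2, 4, 5, 6, 7} : Finset (Fin 8))).relIndex (D.par ({0, 1, 2, 4, 5, 6, 7} : Finset (Fin 8))) =
    1 + q + q ^ 2 := by
  rw [D.rel (k := 0) (JL := [0, 1, 2, 4, 5, 6, 7]) (L := t_0124567_0) ok_0124567_0 (by decide) (by decide) (by decide), S_0124567_0]

/-- the orbit of the weight `7` under `W_{0,1,2,4,5,6,7}` -/
def t_0124567_7 : List Nd := [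
  ⟨[0, 0, 0, 0, 0, 0, 0, 1], 0, 0, 0⟩, ⟨[0, 0, 0, 0, 0, 0, 1, -1], 1, 0, 7⟩,
  ⟨[0, 0, 0, 0, 0, 1, -1, 0], 2, 1, 6⟩, ⟨[0, 0, 0, 0, 1, -1, 0, 0], 3, 2, 5⟩,
  ⟨[0, 0, 0, 1, -1, 0, 0, 0], 4, 3, 4⟩]

theorem ok_0124567_7 : orbOK 8 7 [0, 1, 2, 4, 5, 6, 7] cl AL t_0124567_7 = true := by decide +kernel

theorem S_0124567_7 (q : ℕ) : S q t_0124567_7 = 1 + q + q ^ 2 + q ^ 3 + q ^ 4 := by
  simp only [S, t_0124567_7, List.map_cons, List.map_nil, List.sum_cons, List.sum_nil]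
  ring

theorem rel_0124567_7 [Finite G] : (D.par ({0, 1, 2, 4, 5, 6} : Finset (Fin 8))).relIndex (D.par ({0, 1, 2, 4, 5, 6, 7} : Finset (Fin 8))) =
    1 + q + q ^ 2 + q ^ 3 + q ^ 4 := by
  rw [D.rel (k := 7) (JL := [0, 1, 2, 4, 5, 6, 7]) (L := t_0124567_7) ok_0124567_7 (by decide) (by decide) (by decide), S_0124567_7]

/-- the orbit of the weight `0` under `W_{0,1,2,3,5,6,7}` -/
def t_0123567_0 : List Nd := [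
  ⟨[1, 0, 0, 0, 0, 0, 0, 0], 0, 0, 0⟩, ⟨[-1, 0, 1, 0, 0, 0, 0, 0], 1, 0, 0⟩,
  ⟨[0, 0, -1, 1, 0, 0, 0, 0], 2, 1, 2⟩, ⟨[0, 1, 0, -1, 1, 0, 0, 0], 3, 2, 3⟩,
  ⟨[0, -1, 0, 0, 1, 0, 0, 0], 4, 3, 1⟩]

theorem ok_0123567_0 : orbOK 8 0 [0, 1, 2, 3, 5, 6, 7] cl AL t_0123567_0 = true := by decide +kernel

theorem S_0123567_0 (q : ℕ) : S q t_0123567_0 = 1 + q + q ^ 2 + q ^ 3 + q ^ 4 := by
  simp only [S, t_0123567_0, List.map_cons, List.map_nil, List.sum_cons, List.sum_nil]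
  ring

theorem rel_0123567_0 [Finite G] : (D.par ({1, 2, 3, 5, 6, 7} : Finset (Fin 8))).relIndex (D.par ({0, 1, 2, 3, 5, 6, 7} : Finset (Fin 8))) =
    1 + q + q ^ 2 + q ^ 3 + q ^ 4 := by
  rw [D.rel (k := 0) (JL := [0, 1, 2, 3, 5, 6, 7]) (L := t_0123567_0) ok_0123567_0 (by decide) (by decide) (by decide), S_0123567_0]

/-- the orbit of the weight `7` under `W_{0,1,2,3,5,6,7}` -/
def t_0123567_7 : List Nd := [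
  ⟨[0, 0, 0, 0, 0, 0, 0, 1], 0, 0, 0⟩, ⟨[0, 0, 0, 0, 0, 0, 1, -1], 1, 0, 7⟩,
  ⟨[0, 0, 0, 0, 0, 1, -1, 0], 2, 1, 6⟩, ⟨[0, 0, 0, 0, 1, -1, 0, 0], 3, 2, 5⟩]

theorem ok_0123567_7 : orbOK 8 7 [0, 1, 2, 3, 5, 6, 7] cl AL t_0123567_7 = true := by decide +kernel

theorem S_0123567_7 (q : ℕ) : S q t_0123567_7 = 1 + q + q ^ 2 + q ^ 3 := by
  simp only [S, t_0123567_7, List.map_cons, List.map_nil, List.sum_cons, List.sum_nil]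
  ring

theorem rel_0123567_7 [Finite G] : (D.par ({0, 1, 2, 3, 5, 6} : Finset (Fin 8))).relIndex (D.par ({0, 1, 2, 3, 5, 6, 7} : Finset (Fin 8))) =
    1 + q + q ^ 2 + q ^ 3 := by
  rw [D.rel (k := 7) (JL := [0, 1, 2, 3, 5, 6, 7]) (L := t_0123567_7) ok_0123567_7 (by decide) (by decide) (by decide), S_0123567_7]

/-- the orbit of the weight `0` under `W_{0,1,2,3,4,6,7}` -/
def t_0123467_0 : List Nd := [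
  ⟨[1, 0, 0, 0, 0, 0, 0, 0], 0, 0, 0⟩, ⟨[-1, 0, 1, 0, 0, 0, 0, 0], 1, 0, 0⟩,
  ⟨[0, 0, -1, 1, 0, 0, 0, 0], 2, 1, 2⟩, ⟨[0, 1, 0, -1, 1, 0, 0, 0], 3, 2, 3⟩,
  ⟨[0, -1, 0, 0, 1, 0, 0, 0], 4, 3, 1⟩, ⟨[0, 1, 0, 0, -1, 1, 0, 0], 4, 3, 4⟩,
  ⟨[0, -1, 0, 1, -1, 1, 0, 0], 5, 4, 4⟩, ⟨[0, 0, 1, -1, 0, 1, 0, 0], 6, 6, 3⟩,
  ⟨[1, 0, -1, 0, 0, 1, 0, 0], 7, 7, 2⟩, ⟨[-1, 0, 0, 0, 0, 1, 0, 0], 8, 8, 0⟩]

theorem ok_0123467_0 : orbOK 8 0 [0, 1, 2, 3, 4, 6, 7] cl AL t_0123467_0 = true := by decide +kernel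

theorem S_0123467_0 (q : ℕ) : S q t_0123467_0 = (1 + q ^ 4) * (1 + q + q ^ 2 + q ^ 3 + q ^ 4) := by
  simp only [S, t_0123467_0, List.map_cons, List.map_nil, List.sum_cons, List.sum_nil]
  ring

theorem rel_0123467_0 [Finite G] : (D.par ({1, 2, 3, 4, 6, 7} : Finset (Fin 8))).relIndex (D.par ({0, 1, 2, 3, 4, 6, 7} : Finset (Fin 8))) =
    (1 + q ^ 4) * (1 + q + q ^ 2 + q ^ 3 + q ^ 4) := by
  rw [D.rel (k := 0) (JL := [0, 1, 2, 3, 4, 6, 7]) (L := t_0123467_0) ok_0123467_0 (by decide) (by decide) (by decide), S_0123467_0]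

/-- the orbit of the weight `7` under `W_{0,1,2,3,4,6,7}` -/
def t_0123467_7 : List Nd := [
  ⟨[0, 0, 0, 0, 0, 0, 0, 1], 0, 0, 0⟩, ⟨[0, 0, 0, 0, 0, 0, 1, -1], 1, 0, 7⟩,
  ⟨[0, 0, 0, 0, 0, 1, -1, 0], 2, 1, 6⟩]

theorem ok_0123467_7 : orbOK 8 7 [0, 1, 2, 3, 4, 6, 7] cl AL t_0123467_7 = true := by decide +kernel

theorem S_0123467_7 (q : ℕ) : S q t_0123467_7 = 1 + q + q ^ 2 := by
  simp only [S, t_0123467_7, List.map_cons, List.map_nil, List.sum_cons, List.sum_nil]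
  ring

theorem rel_0123467_7 [Finite G] : (D.par ({0, 1, 2, 3, 4, 6} : Finset (Fin 8))).relIndex (D.par ({0, 1, 2, 3, 4, 6, 7} : Finset (Fin 8))) =
    1 + q + q ^ 2 := by
  rw [D.rel (k := 7) (JL := [0, 1, 2, 3, 4, 6, 7]) (L := t_0123467_7) ok_0123467_7 (by decide) (by decide) (by decide), S_0123467_7]

/-- the orbit of the weight `0` under `W_{0,1,2,3,4,5,7}` -/
def t_0123457_0 : List Nd := [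
  ⟨[1, 0, 0, 0, 0, 0, 0, 0], 0, 0, 0⟩, ⟨[-1, 0, 1, 0, 0, 0, 0, 0], 1, 0, 0⟩,
  ⟨[0, 0, -1, 1, 0, 0, 0, 0], 2, 1, 2⟩, ⟨[0, 1, 0, -1, 1, 0, 0, 0], 3, 2, 3⟩,
  ⟨[0, -1, 0, 0, 1, 0, 0, 0], 4, 3, 1⟩, ⟨[0, 1, 0, 0, -1, 1, 0, 0], 4, 3, 4⟩,
  ⟨[0, -1, 0, 1, -1, 1, 0, 0], 5, 4, 4⟩, ⟨[0, 1, 0, 0, 0, -1, 1, 0], 5, 5, 5⟩,
  ⟨[0, 0, 1, -1, 0, 1, 0, 0], 6, 6, 3⟩, ⟨[0, -1, 0, 1, 0, -1, 1, 0], 6, 6, 5⟩,
  ⟨[1, 0, -1, 0, 0, 1, 0, 0], 7, 8, 2⟩, ⟨[0, 0, 1, -1, 1, -1, 1, 0], 7, 8, 5⟩,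
  ⟨[-1, 0, 0, 0, 0, 1, 0, 0], 8, 10, 0⟩, ⟨[1, 0, -1, 0, 1, -1, 1, 0], 8, 10, 5⟩,
  ⟨[0, 0, 1, 0, -1, 0, 1, 0], 8, 11, 4⟩, ⟨[-1, 0, 0, 0, 1, -1, 1, 0], 9, 12, 5⟩,
  ⟨[1, 0, -1, 1, -1, 0, 1, 0], 9, 13, 4⟩, ⟨[-1, 0, 0, 1, -1, 0, 1, 0], 10, 15, 4⟩,
  ⟨[1, 1, 0, -1, 0, 0, 1, 0], 10, 16, 3⟩, ⟨[-1, 1, 1, -1, 0, 0, 1, 0], 11, 17, 3⟩,
  ⟨[1, -1, 0, 0, 0, 0, 1, 0], 11, 18, 1⟩, ⟨[-1, -1, 1, 0, 0, 0, 1, 0], 12, 19, 1⟩,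
  ⟨[0, 1, -1, 0, 0, 0, 1, 0], 12, 19, 2⟩, ⟨[0, -1, -1, 1, 0, 0, 1, 0], 13, 21, 2⟩,
  ⟨[0, 0, 0, -1, 1, 0, 1, 0], 14, 23, 3⟩, ⟨[0, 0, 0, 0, -1, 1, 1, 0], 15, 24, 4⟩,
  ⟨[0, 0, 0, 0, 0, -1, 2, 0], 16, 25, 5⟩]

theorem ok_0123457_0 : orbOK 8 0 [0, 1, 2, 3, 4, 5, 7] cl AL t_0123457_0 = true := by decide +kernel

theorem S_0123457_0 (q : ℕ) : S q t_0123457_0 = (1 + q ^ 4 + q ^ 8) * (1 + q + q ^ 2 + q ^ 3 + q ^ 4 + q ^ 5 + q ^ 6 + q ^ 7 + q ^ 8) := by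
  simp only [S, t_0123457_0, List.map_cons, List.map_nil, List.sum_cons, List.sum_nil]
  ring

theorem rel_0123457_0 [Finite G] : (D.par ({1, 2, 3, 4, 5, 7} : Finset (Fin 8))).relIndex (D.par ({0, 1, 2, 3, 4, 5, 7} : Finset (Fin 8))) =
    (1 + q ^ 4 + q ^ 8) * (1 + q + q ^ 2 + q ^ 3 + q ^ 4 + q ^ 5 + q ^ 6 + q ^ 7 + q ^ 8) := by
  rw [D.rel (k := 0) (JL := [0, 1, 2, 3, 4, 5, 7]) (L := t_0123457_0) ok_0123457_0 (by decide) (by decide) (by decide), S_0123457_0]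

/-- the orbit of the weight `7` under `W_{0,1,2,3,4,5,7}` -/
def t_0123457_7 : List Nd := [
  ⟨[0, 0, 0, 0, 0, 0, 0, 1], 0, 0, 0⟩, ⟨[0, 0, 0, 0, 0, 0, 1, -1], 1, 0, 7⟩]

theorem ok_0123457_7 : orbOK 8 7 [0, 1, 2, 3, 4, 5, 7] cl AL t_0123457_7 = true := by decide +kernel

theorem S_0123457_7 (q : ℕ) : S q t_0123457_7 = 1 + q := by
  simp only [S, t_0123457_7, List.map_cons, List.map_nil, List.sum_cons, List.sum_nil]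
  ring

theorem rel_0123457_7 [Finite G] : (D.par ({0, 1, 2, 3, 4, 5} : Finset (Fin 8))).relIndex (D.par ({0, 1, 2, 3, 4, 5, 7} : Finset (Fin 8))) =
    1 + q := by
  rw [D.rel (k := 7) (JL := [0, 1, 2, 3, 4, 5, 7]) (L := t_0123457_7) ok_0123457_7 (by decide) (by decide) (by decide), S_0123457_7]

theorem cop_2 (q : ℕ) : Nat.Coprime (1 + q) (1 + q + q ^ 2 + q ^ 3 + q ^ 4 + q ^ 5 + q ^ 6) := by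
  rw [← Nat.isCoprime_iff_coprime]
  push_cast
  refine ⟨(-1) * (q : ℤ) + (-1) * (q : ℤ) ^ 3 + (-1) * (q : ℤ) ^ 5, (1), ?_⟩
  ring

theorem cop_3 (q : ℕ) : Nat.Coprime (1 + q + q ^ 2) (1 + q + q ^ 2 + q ^ 3 + q ^ 4) := by
  rw [← Nat.isCoprime_iff_coprime]
  push_cast
  refine ⟨(1) + (1) * (q : ℤ) ^ 3, (-1) * (q : ℤ), ?_⟩
  ring

theorem cop_4 (q : ℕ) : Nat.Coprime (1 + q + q ^ 2 + q ^ 3 + q ^ 4) (1 + q + q ^ 2 + q ^ 3) := by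
  rw [← Nat.isCoprime_iff_coprime]
  push_cast
  refine ⟨(1), (-1) * (q : ℤ), ?_⟩
  ring

theorem cop_5 (q : ℕ) : Nat.Coprime ((1 + q ^ 4) * (1 + q + q ^ 2 + q ^ 3 + q ^ 4)) (1 + q + q ^ 2) := by
  rw [← Nat.isCoprime_iff_coprime]
  push_cast
  refine ⟨(-1) + (-1) * (q : ℤ), (2) + (2) * (q : ℤ) ^ 3 + (1) * (q : ℤ) ^ 4 + (1) * (q : ℤ) ^ 6 + (1) * (q : ℤ) ^ 7, ?_⟩
  ring

end Cfsg.Agent.H470.PiRad.TabE8
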