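import Cfsg.Agent.H470.PiRad.Dat

/-!
# S4324: orbit tables and indices, type Tw (helper470, generated)
-/

set_option autoImplicit false
set_option linter.unusedSectionVars false

namespace Cfsg.Agent.H470.PiRad.TabTw

open Cfsg Subgroup Cfsg.Agent.H470.PiRad.Mod Cfsg.Agent.H470.PiRad.Orb
open Cfsg.Agent.ChevalleyStructure.CoxeterGeom

/-- the Cartan matrix -/
def AL : List (List ℤ) := [[2, -1, 0, 0], [-1, 2, -1, 0], [0, -2, 2, -1], [0, 0, -1, 2]]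

/-- the exponents of the simple root groups -/
def cl : List ℕ := [1, 1, 2, 2]

variable {t q : ℕ} {M : CoxeterMatrix (Fin 4)}
    {A : Fin 4 → Fin 4 → ℤ} {h : IsCartan M A} {G : Type*} [Group G] {T : Subgroup G} {n : Fin 4 → G}
    {X : (Fin 4 → ℤ) → Subgroup G} (D : Dat t q AL cl h T n X)

/-- the orbit of the weight `0` under `W_{0}` -/
def t_0_0 : List Nd := [
  ⟨[1, 0, 0, 0], 0, 0, 0⟩, ⟨[-1, 1, 0, 0], 1, 0, 0⟩]

theorem ok_0_0 : orbOK 4 0 [0] cl AL t_0_0 = true := by decide +kernel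

theorem S_0_0 (q : ℕ) : S q t_0_0 = 1 + q := by
  simp only [S, t_0_0, List.map_cons, List.map_nil, List.sum_cons, List.sum_nil]
  ring

theorem rel_0_0 [Finite G] : (D.par (∅ : Finset (Fin 4))).relIndex (D.par ({0} : Finset (Fin 4))) =
    1 + q := by
  rw [D.rel (k := 0) (JL := [0]) (L := t_0_0) ok_0_0 (by decide) (by decide) (by decide), S_0_0]

/-- the orbit of the weight `0` under `W_{0,1}` -/
def t_01_0 : List Nd := [
  ⟨[1, 0, 0, 0], 0, 0, 0⟩, ⟨[-1, 1, 0, 0], 1, 0, 0⟩, ⟨[0, -1, 1, 0], 2, 1, 1⟩]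

theorem ok_01_0 : orbOK 4 0 [0, 1] cl AL t_01_0 = true := by decide +kernel

theorem S_01_0 (q : ℕ) : S q t_01_0 = 1 + q + q ^ 2 := by
  simp only [S, t_01_0, List.map_cons, List.map_nil, List.sum_cons, List.sum_nil]
  ring

theorem rel_01_0 [Finite G] : (D.par ({1} : Finset (Fin 4))).relIndex (D.par ({0, 1} : Finset (Fin 4))) =
    1 + q + q ^ 2 := by
  rw [D.rel (k := 0) (JL := [0, 1]) (L := t_01_0) ok_01_0 (by decide) (by decide) (by decide), S_01_0]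

/-- the orbit of the weight `1` under `W_{1}` -/
def t_1_1 : List Nd := [
  ⟨[0, 1, 0, 0], 0, 0, 0⟩, ⟨[1, -1, 1, 0], 1, 0, 1⟩]

theorem ok_1_1 : orbOK 4 1 [1] cl AL t_1_1 = true := by decide +kernel

theorem S_1_1 (q : ℕ) : S q t_1_1 = 1 + q := by
  simp only [S, t_1_1, List.map_cons, List.map_nil, List.sum_cons, List.sum_nil]
  ring

theorem rel_1_1 [Finite G] : (D.par (∅ : Finset (Fin 4))).relIndex (D.par ({1} : Finset (Fin 4))) =
    1 + q := by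
  rw [D.rel (k := 1) (JL := [1]) (L := t_1_1) ok_1_1 (by decide) (by decide) (by decide), S_1_1]

/-- the orbit of the weight `3` under `W_{2,3}` -/
def t_23_3 : List Nd := [
  ⟨[0, 0, 0, 1], 0, 0, 0⟩, ⟨[0, 0, 1, -1], 2, 0, 3⟩, ⟨[0, 2, -1, 0], 4, 1, 2⟩]

theorem ok_23_3 : orbOK 4 3 [2, 3] cl AL t_23_3 = true := by decide +kernel

theorem S_23_3 (q : ℕ) : S q t_23_3 = 1 + q ^ 2 + q ^ 4 := by
  simp only [S, t_23_3, List.map_cons, List.map_nil, List.sum_cons, List.sum_nil]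
  ring

theorem rel_23_3 [Finite G] : (D.par ({2} : Finset (Fin 4))).relIndex (D.par ({2, 3} : Finset (Fin 4))) =
    1 + q ^ 2 + q ^ 4 := by
  rw [D.rel (k := 3) (JL := [2, 3]) (L := t_23_3) ok_23_3 (by decide) (by decide) (by decide), S_23_3]

/-- the orbit of the weight `3` under `W_{3}` -/
def t_3_3 : List Nd := [
  ⟨[0, 0, 0, 1], 0, 0, 0⟩, ⟨[0, 0, 1, -1], 2, 0, 3⟩]

theorem ok_3_3 : orbOK 4 3 [3] cl AL t_3_3 = true := by decide +kernel

theorem S_3_3 (q : ℕ) : S q t_3_3 = 1 + q ^ 2 := by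
  simp only [S, t_3_3, List.map_cons, List.map_nil, List.sum_cons, List.sum_nil]
  ring

theorem rel_3_3 [Finite G] : (D.par (∅ : Finset (Fin 4))).relIndex (D.par ({3} : Finset (Fin 4))) =
    1 + q ^ 2 := by
  rw [D.rel (k := 3) (JL := [3]) (L := t_3_3) ok_3_3 (by decide) (by decide) (by decide), S_3_3]

/-- the orbit of the weight `2` under `W_{2}` -/
def t_2_2 : List Nd := [
  ⟨[0, 0, 1, 0], 0, 0, 0⟩, ⟨[0, 2, -1, 1], 2, 0, 2⟩]

theorem ok_2_2 : orbOK 4 2 [2] cl AL t_2_2 = true := by decide +kernel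

theorem S_2_2 (q : ℕ) : S q t_2_2 = 1 + q ^ 2 := by
  simp only [S, t_2_2, List.map_cons, List.map_nil, List.sum_cons, List.sum_nil]
  ring

theorem rel_2_2 [Finite G] : (D.par (∅ : Finset (Fin 4))).relIndex (D.par ({2} : Finset (Fin 4))) =
    1 + q ^ 2 := by
  rw [D.rel (k := 2) (JL := [2]) (L := t_2_2) ok_2_2 (by decide) (by decide) (by decide), S_2_2]

/-- the orbit of the weight `2` under `W_{0,1,2}` -/
def t_012_2 : List Nd := [
  ⟨[0, 0, 1, 0], 0, 0, 0⟩, ⟨[0, 2, -1, 1], 2, 0, 2⟩, ⟨[2, -2, 1, 1], 3, 1, 1⟩, ⟨[-2, 0, 1, 1], 4, 2, 0⟩,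
  ⟨[2, 0, -1, 2], 5, 2, 2⟩, ⟨[-2, 2, -1, 2], 6, 3, 2⟩, ⟨[0, -2, 1, 2], 7, 5, 1⟩, ⟨[0, 0, -1, 3], 9, 6, 2⟩]

theorem ok_012_2 : orbOK 4 2 [0, 1, 2] cl AL t_012_2 = true := by decide +kernel

theorem S_012_2 (q : ℕ) : S q t_012_2 = (1 + q ^ 3) * (1 + q ^ 2) * (1 + q ^ 4) := by
  simp only [S, t_012_2, List.map_cons, List.map_nil, List.sum_cons, List.sum_nil]
  ring

theorem rel_012_2 [Finite G] : (D.par ({0, 1} : Finset (Fin 4))).relIndex (D.par ({0, 1, 2} : Finset (Fin 4))) =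
    (1 + q ^ 3) * (1 + q ^ 2) * (1 + q ^ 4) := by
  rw [D.rel (k := 2) (JL := [0, 1, 2]) (L := t_012_2) ok_012_2 (by decide) (by decide) (by decide), S_012_2]

/-- the orbit of the weight `0` under `W_{0,1,3}` -/
def t_013_0 : List Nd := [
  ⟨[1, 0, 0, 0], 0, 0, 0⟩, ⟨[-1, 1, 0, 0], 1, 0, 0⟩, ⟨[0, -1, 1, 0], 2, 1, 1⟩]

theorem ok_013_0 : orbOK 4 0 [0, 1, 3] cl AL t_013_0 = true := by decide +kernel

theorem S_013_0 (q : ℕ) : S q t_013_0 = 1 + q + q ^ 2 := by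
  simp only [S, t_013_0, List.map_cons, List.map_nil, List.sum_cons, List.sum_nil]
  ring

theorem rel_013_0 [Finite G] : (D.par ({1, 3} : Finset (Fin 4))).relIndex (D.par ({0, 1, 3} : Finset (Fin 4))) =
    1 + q + q ^ 2 := by
  rw [D.rel (k := 0) (JL := [0, 1, 3]) (L := t_013_0) ok_013_0 (by decide) (by decide) (by decide), S_013_0]

/-- the orbit of the weight `3` under `W_{0,1,3}` -/
def t_013_3 : List Nd := [
  ⟨[0, 0, 0, 1], 0, 0, 0⟩, ⟨[0, 0, 1, -1], 2, 0, 3⟩]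

theorem ok_013_3 : orbOK 4 3 [0, 1, 3] cl AL t_013_3 = true := by decide +kernel

theorem S_013_3 (q : ℕ) : S q t_013_3 = 1 + q ^ 2 := by
  simp only [S, t_013_3, List.map_cons, List.map_nil, List.sum_cons, List.sum_nil]
  ring

theorem rel_013_3 [Finite G] : (D.par ({0, 1} : Finset (Fin 4))).relIndex (D.par ({0, 1, 3} : Finset (Fin 4))) =
    1 + q ^ 2 := by
  rw [D.rel (k := 3) (JL := [0, 1, 3]) (L := t_013_3) ok_013_3 (by decide) (by decide) (by decide), S_013_3]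

theorem cop_2 (q : ℕ) : Nat.Coprime (1 + q + q ^ 2) (1 + q ^ 2) := by
  rw [← Nat.isCoprime_iff_coprime]
  push_cast
  refine ⟨(-1) * (q : ℤ), (1) + (1) * (q : ℤ), ?_⟩
  ring

end Cfsg.Agent.H470.PiRad.TabTw
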