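import Cfsg.Agent.H470.PiRad.Inst
import Cfsg.Agent.H79.FieldAuts

/-!
# S4324: field automorphisms of the Chevalley groups are type preserving (helper470)

* `tb_field` : `fieldHom σ` normalises `B` and the minimal parabolic subgroups.
-/

set_option autoImplicit false
set_option linter.unusedSectionVars false

namespace Cfsg.Agent.H470.PiRad.FieldTP

open Cfsg Subgroup Cfsg.Agent.H470.PiRad.Mod Cfsg.Agent.H470.PiRad.CosetSys Cfsg.Agent.H459.Gallery
open Cfsg.Agent.Schreier.BNSch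
open CoxeterSystem Cfsg.Agent.ChevalleyStructure.CoxeterGeom Cfsg.Agent.Tits.Roots
  Cfsg.Agent.Nodes.Reps Cfsg.Agent.Nodes.BNOf
open Cfsg.Lie Cfsg.Agent.ChevalleyStructure Cfsg.Agent.ChevalleyStructure.Elts
  Cfsg.Agent.ChevalleyStructure.RootVec Cfsg.Agent.ChevalleyStructure.RootVecTab
  Cfsg.Agent.ChevalleyStructure.NPerm Cfsg.Agent.ChevalleyStructure.CoxeterGeomTypes
open Cfsg.Agent.Nodes.RGDChev Cfsg.Agent.H35.ExcIdx Cfsg.Agent.H79.SimpleGen Cfsg.Agent.H79.FieldAuts

variable {D : ChevalleyDatum} {l : ℕ} {M : CoxeterMatrix (Fin l)} (hp : IsType D l M) {F : Type*} [Field F]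
  [Fintype F] {t q : ℕ} [Fact t.Prime] {AL : List (List ℤ)} {cl : List ℕ}
  (Da : Dat t q AL cl hp.isCartan (TT D F) (fun i => (⟨nn hp F i, nn_mem_group hp i⟩ : ↥(D.group F))) (XX D l F))

theorem xS_coe (hD : InList D) (r : ℕ) (u : F) : ((xS hD r u : ↥(D.group F)) : GL D.Idx F) = xG hD r u := rfl

include Da

theorem tb_field [IsSimpleGroup ↥(D.group F)] (hl : 0 < l) (σ : RingAut F) : TB Da.bn (fieldHom hp.inList F σ) := by
  classical
  have := Da.fin
  set z := fieldHom hp.inList F σ with hz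
  set P := Da.bn with hP
  have hmS : ∀ i, (⟨nn hp F i, nn_mem_group hp i⟩ : ↥(D.group F)) ∈ P.S := fun i => ⟨i, rfl⟩
  have hne : P.S.Nonempty := ⟨_, hmS ⟨0, hl⟩⟩
  have hcore := Cfsg.Agent.Tits.OfBN.normalCore_eq_bot P hne
  have hsplit := Cfsg.Agent.FixBN.SplitRGD.split_of_rgd Fact.out Da.rgd Da.hgen hcore
  have hX : ∀ x : Fin l → ℤ, IsRoot M.toCoxeterSystem hp.isCartan x → ∀ u ∈ XX D l F x, z u ∈ XX D l F x := by
    intro x hx u hu
    obtain ⟨r, hr, rfl⟩ := (isRoot_iff hp M.toCoxeterSystem x).1 hx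
    change u ∈ (XV D l F (vec D l r)).subgroupOf (D.group F) at hu
    show z u ∈ (XV D l F (vec D l r)).subgroupOf (D.group F)
    rw [mem_subgroupOf, XV_vec hp F hr, mem_rootSubgroup_iff hp.inList] at hu ⊢
    obtain ⟨v, hv⟩ := hu
    have h1 : u = xS hp.inList r v := Subtype.ext hv
    refine ⟨σ v, ?_⟩
    rw [h1, hz, fieldHom_xS hp.inList σ hr]
    rfl
  have hU : Iv z (RGD.Sup (XX D l F) (RGD.Pos M.toCoxeterSystem hp.isCartan)) := by
    have h1 : RGD.Sup (XX D l F) (RGD.Pos M.toCoxeterSystem hp.isCartan) ≤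
        (RGD.Sup (XX D l F) (RGD.Pos M.toCoxeterSystem hp.isCartan)).comap z.toMonoidHom := by
      refine RGD.Sup_le fun x hx u hu => ?_
      exact RGD.le_Sup (S := RGD.Pos M.toCoxeterSystem hp.isCartan) hx (hX x hx.1 u hu)
    exact fun a ha => h1 ha
  have hB : Iv z P.B := by
    intro b hb
    have h1 : normalizer ((RGD.Sup (XX D l F) (RGD.Pos M.toCoxeterSystem hp.isCartan) : Subgroup ↥(D.group F)) :
      Set ↥(D.group F)) = P.B := hsplit.normalizer_eq
    have hzU' := hU.map_eq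
    rw [← h1, Subgroup.mem_normalizer_iff_map_conj_eq] at hb ⊢
    set V := RGD.Sup (XX D l F) (RGD.Pos M.toCoxeterSystem hp.isCartan) with hV
    have h5 : (V.map (MulAut.conj b).toMonoidHom).map z.toMonoidHom =
        (V.map z.toMonoidHom).map (MulAut.conj (z b)).toMonoidHom := by
      rw [Subgroup.map_map, Subgroup.map_map]
      congr 1
      ext k
      simp
    have hb' : V.map (MulAut.conj b).toMonoidHom = V := hb
    rw [hb', hzU'] at h5
    exact h5.symm
  refine ⟨hB, ?_⟩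
  rintro _ ⟨i, rfl⟩
  have hr : D.simple i < D.nroots := Cfsg.Agent.H79.SimpleGen.simple_lt hp.inList (lt_rank hp i)
  have hr' : D.neg (D.simple i) < D.nroots := neg_simple_lt hp.inList (lt_rank hp i)
  have hni : z ⟨nn hp F i, nn_mem_group hp i⟩ = ⟨nn hp F i, nn_mem_group hp i⟩ := by
    have h1 : (⟨nn hp F i, nn_mem_group hp i⟩ : ↥(D.group F)) =
        xS hp.inList (D.simple i) 1 * xS hp.inList (D.neg (D.simple i)) (-1⁻¹) * xS hp.inList (D.simple i) 1 := by
      apply Subtype.ext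
      show nG hp.inList (D.simple i) 1 = _
      rw [nG_def, ← mul_assoc]
      rfl
    rw [h1, map_mul, map_mul, hz, fieldHom_xS hp.inList σ hr, fieldHom_xS hp.inList σ hr', map_one, map_neg,
      map_inv₀, map_one]
  have h1 : P.parabolic {(⟨nn hp F i, nn_mem_group hp i⟩ : ↥(D.group F))} ≤
      (P.parabolic {(⟨nn hp F i, nn_mem_group hp i⟩ : ↥(D.group F))}).comap z.toMonoidHom := by
    refine sup_le (fun b hb => B_le_parabolic P _ (hB b hb)) ((Subgroup.closure_le _).2 ?_)
    rintro _ rfl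
    show z _ ∈ P.parabolic _
    rw [hni]
    exact mem_parabolic_self P _
  exact fun a ha => h1 ha

/-- **inner times field automorphisms are type preserving** -/
theorem tp_field [IsSimpleGroup ↥(D.group F)] (hl : 0 < l) (σ : RingAut F) (a : ↥(D.group F)) :
    TP Da.bn (MulAut.conj a * fieldHom hp.inList F σ) :=
  ⟨a, by rw [inv_mul_cancel_left]; exact tb_field hp Da hl σ⟩

end Cfsg.Agent.H470.PiRad.FieldTP
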