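import Cfsg.Agent.H470.PiRad.NRow
import Cfsg.Agent.H470.PiRad.FieldTP
import Cfsg.Agent.H73.Pi.PolF4

/-!
# S4324: the row `NR` of `F₄(q)` (helper470, with helper73's `fieldInner_of_FC`)

* `exists_fieldInner` : in odd characteristic every automorphism of `F₄(F)` is inner times field;
* `nr_F4` : the condition `NR` for `F₄(q)`; `NR_F4` : the field `f4` of `H809.Pi.Rows`.
-/

set_option autoImplicit false
set_option linter.unusedSectionVars false

namespace Cfsg.Agent.H470.PiRad.NRF4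

open Cfsg Subgroup Cfsg.Agent.H216.Pi Cfsg.Agent.H470.PiRad.CosetSys Cfsg.Agent.H470.PiRad.Mod
open Cfsg.Lie Cfsg.Agent.H470.PiRad.NRow

section Aut

open Cfsg.Agent.ChevalleyStructure Cfsg.Agent.ChevalleyStructure.Elts Cfsg.Agent.H79.SimpleGen
  Cfsg.Agent.H79.OutChev Cfsg.Agent.H79.FieldAuts Cfsg.Agent.H79.DiagAuts Cfsg.Agent.H79.FieldParam
  Cfsg.Agent.H79.EdgeSymm Cfsg.Agent.H79.DiagSymm Cfsg.Agent.H296.FFour

theorem exists_fieldInner {F : Type} [Field F] [Fintype F] (h2 : ringChar F ≠ 2) (θ : MulAut ↥(chevF4.group F)) :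
    ∃ (a : ↥(chevF4.group F)) (σ : RingAut F), θ = MulAut.conj a * fieldHom hp4.inList F σ := by
  have hD : InList chevF4 := hp4.inList
  obtain ⟨x, π, -, -, h1, h2'⟩ := H70.ChevFix.exists_conj_perm hD θ
  set φ := MulAut.conj x * θ with hφdef
  have hφ : H70.ChevField.Perm chevF4 F φ π := ⟨h1, h2'⟩
  obtain ⟨c, σ, hc, hpos, hneg, hrel⟩ := H70.ChevField.exists_field hD hφ
  have hedge : EdgePres chevF4 π := fun i j hij => H70.ChevField.cartan_eq_zero_iff hφ hD hij
  have hr : 0 < chevF4.rank := (RootComb.good_of_mem hD).rank_pos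
  have hπ1 : π = 1 := by
    have h6 := edge_F4 hedge
    simp only [List.mem_cons, List.not_mem_nil, or_false] at h6
    rcases h6 with h6 | h7
    · have e0 : imgs (1 : Equiv.Perm (Fin chevF4.rank)) = [0, 1, 2, 3] := imgs_one
      exact eq_of_imgs (h6.trans e0.symm)
    · exfalso
      have p1 : ((π ⟨1, by decide⟩ : Fin chevF4.rank) : ℕ) = 2 := by rw [← imgs_getD, h7]; rfl
      have p2 : ((π ⟨2, by decide⟩ : Fin chevF4.rank) : ℕ) = 1 := by rw [← imgs_getD, h7]; rfl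
      have r12 := (show Rel chevF4 π σ from hrel).pow_eq (i := ⟨1, by decide⟩) (j := ⟨2, by decide⟩) (k := 2)
        (by decide) (by decide +kernel) (by rw [p1, p2]; decide +kernel)
      exact h2 (two_of_sq r12)
  subst hπ1
  obtain ⟨τ, hτ⟩ := exists_tau hD hr hedge hrel
  obtain ⟨δ, hδ, hδd⟩ := exists_isD (F := F) hD (fun j => Units.mk0 (c j) (hc _))
  let f : MulAut ↥(chevF4.group F) := fieldHom hD F τ
  have hτ' : ∀ i t, σ i t = τ t := fun i t => by
    rw [hτ i t, Equiv.Perm.one_apply, graphExp_self, pow_one]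
  have hg : φ = δ * f := by
    apply equiv_ext hD
    · intro i hi t
      have e1 : φ (xS hD (chevF4.simple i) t) = xS hD (chevF4.simple i) (c ⟨i, hi⟩ * σ ⟨i, hi⟩ t) := hpos ⟨i, hi⟩ t
      rw [e1, MulAut.mul_apply, fieldHom_xS hD _ (simple_lt hD hi), hτ']
      exact ((hδ ⟨i, hi⟩ (τ t)).1).symm
    · intro i hi t
      have e1 : φ (xS hD (chevF4.neg (chevF4.simple i)) t) =
          xS hD (chevF4.neg (chevF4.simple i)) ((c ⟨i, hi⟩)⁻¹ * σ ⟨i, hi⟩ t) := hneg ⟨i, hi⟩ t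
      rw [e1, MulAut.mul_apply, fieldHom_xS hD _ (neg_simple_lt hD hi), hτ']
      have := (hδ ⟨i, hi⟩ (τ t)).2
      simp only [Units.val_inv_eq_inv_val, Units.val_mk0] at this
      exact this.symm
  obtain ⟨b, rfl⟩ := H73.Pi.PolF4.inner_of_diag hδd
  refine ⟨x⁻¹ * b, τ, ?_⟩
  rw [map_mul, mul_assoc]
  rw [← hg, hφdef, ← mul_assoc, ← map_mul, inv_mul_cancel, map_one, one_mul]

end Aut

theorem nr_F4 {F : Type} [Field F] [Fintype F] {t : ℕ} [Fact t.Prime] [hC : CharP F t]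
    [IsSimpleGroup ↥(chevF4.group F)] : NR t ↥(chevF4.group F) := by
  intro s r x hs hr hr3 hrs _ hst hd hP hx hxs _ hPC hFC
  obtain ⟨P⟩ : Nonempty (Sylow s ↥(chevF4.group F)) := inferInstance
  have he := H320.Cyc.ord_F4 (t := t) (MulEquiv.refl _) hs (hr3.trans hrs) hst P (hP P)
  have htp : t.Prime := Fact.out
  have hTP : TP (Inst.dat_F4 F t).bn x := by
    by_cases ht2 : t = 2
    · subst ht2
      obtain ⟨a, σ, hxa⟩ := H73.Pi.PolF4.fieldInner_of_FC hx hs hd (le_trans (by norm_num) (mm_ge r)) hFC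
      rw [hxa]
      exact FieldTP.tp_field _ (Inst.dat_F4 F 2) (by norm_num) σ a
    · have h2 : ringChar F ≠ 2 := by
        rw [ringChar.eq F t]
        exact ht2
      obtain ⟨a, σ, hxa⟩ := exists_fieldInner h2 x
      rw [hxa]
      exact FieldTP.tp_field _ (Inst.dat_F4 F t) (by norm_num) σ a
  exact tpr_F4 hs (hr3.trans hrs) hst hd he hx hTP (le_trans (by norm_num) (mm_ge r)) hPC hFC

theorem NR_F4 (t : ℕ) (K : Type) [Group K] [Finite K] [IsSimpleGroup K] (ht : t.Prime)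
    (h : ∃ (F : Type) (_ : Field F) (_ : Fintype F) (_ : CharP F t), Nonempty (K ≃* Lie.chevF4.group F)) : NR t K := by
  obtain ⟨F, _, _, hC, ⟨e⟩⟩ := h
  have : Fact t.Prime := ⟨ht⟩
  have : IsSimpleGroup ↥(Lie.chevF4.group F) := (MulEquiv.isSimpleGroup_congr e).1 inferInstance
  exact nr_congr e nr_F4

end Cfsg.Agent.H470.PiRad.NRF4
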