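import Cfsg.Agent.H216.Pi.Base
import Cfsg.Agent.H470.SolvPi
import Cfsg.Agent.H459.Reduce

/-!
# The reduction for the Baer–Suzuki theorem for the `π`-radical (helper470, S4324)

`main` : `RowP K` for all finite non-abelian simple groups `K` implies the theorem (`r ≥ 3`).
-/

set_option autoImplicit false
set_option linter.unusedSectionVars false

namespace Cfsg.Agent.H470.PiRad

open Cfsg Subgroup Cfsg.Agent.H216.Pi Cfsg.Agent.H470.SolvPi

universe u

/-- any `m` conjugates of `x` generate a `π`-subgroup -/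
def HypN (π : Set ℕ) (m : ℕ) {G : Type u} [Group G] (x : G) : Prop :=
  ∀ f : Fin m → G, IsPiSubgroup π (closure (Set.range fun i => f i * x * (f i)⁻¹))

section basic

variable {π : Set ℕ} {m : ℕ} {G H : Type u} [Group G] [Group H]

theorem HypN.pairs [Finite G] (hm : 2 ≤ m) {x : G} (h : HypN π m x) : Pairs π x := by
  intro a b p hp hd
  refine h (fun i => if (i : ℕ) = 0 then a else b) p hp (hd.trans (Subgroup.card_dvd_of_le ?_))
  rw [closure_le]
  rintro y (rfl | rfl)
  · exact Subgroup.subset_closure ⟨⟨0, by omega⟩, by simp⟩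
  · exact Subgroup.subset_closure ⟨⟨1, by omega⟩, by simp⟩

theorem HypN.map [Finite G] {x : G} (h : HypN π m x) {f : G →* H} (hf : Function.Surjective f) :
    HypN π m (f x) := by
  intro a p hp hd
  choose b hb using fun i => hf (a i)
  refine h b p hp (hd.trans ?_)
  have h1 : (closure (Set.range fun i => b i * x * (b i)⁻¹)).map f =
      closure (Set.range fun i => a i * f x * (a i)⁻¹) := by
    rw [MonoidHom.map_closure, ← Set.range_comp]
    congr 2
    funext i
    simp [hb]
  rw [← h1]
  exact Subgroup.card_map_dvd _ f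

theorem HypN.subtype {K : Subgroup G} {x : K} (h : HypN π m (x : G)) : HypN π m x := by
  intro a p hp hd
  refine h (fun i => (a i : G)) p hp ?_
  have h1 : (closure (Set.range fun i => a i * x * (a i)⁻¹)).map K.subtype =
      closure (Set.range fun i => (a i : G) * x * (a i : G)⁻¹) := by
    rw [MonoidHom.map_closure, ← Set.range_comp]
    rfl
  rw [← h1, Subgroup.card_map_of_injective K.subtype_injective]
  exact hd

theorem HypN.pow [Finite G] {x : G} (h : HypN π m x) (k : ℕ) : HypN π m (x ^ k) := by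
  intro a p hp hd
  refine h a p hp (hd.trans (Subgroup.card_dvd_of_le ?_))
  rw [closure_le]
  rintro _ ⟨i, rfl⟩
  have h1 : a i * x * (a i)⁻¹ ∈ closure (Set.range fun i => a i * x * (a i)⁻¹) := Subgroup.subset_closure ⟨i, rfl⟩
  have h2 := pow_mem h1 k
  rwa [conj_pow] at h2

end basic

/-- **The reduction.** -/
theorem reduce {π : Set ℕ} {r : ℕ} (hr : r.Prime) (hr3 : 3 ≤ r) (hrπ : r ∉ π)
    (hmin : ∀ q : ℕ, q.Prime → q ∉ π → r ≤ q)
    (core : ∀ (K : Type u) [Group K] [Finite K] [IsSimpleGroup K], ¬ IsMulCommutative K → RowP K)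
    (G : Type u) [Group G] [Finite G] (x : G) (h : HypN π (mm r) x) :
    IsPiSubgroup π (normalClosure ({x} : Set G)) := by
  induction hn : Nat.card G using Nat.strong_induction_on generalizing G with
  | _ n ih =>
  subst hn
  have hm2 : 2 ≤ mm r := le_trans (by norm_num) (mm_ge r)
  have hx := h.pairs hm2
  set N := normalClosure ({x} : Set G) with hN
  have hNn : N.Normal := normalClosure_normal
  have hxN : x ∈ N := subset_normalClosure rfl
  by_cases hN1 : N = ⊥
  · intro p hp hd
    rw [hN1, card_bot] at hd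
    exact absurd (Nat.dvd_one.1 hd) hp.one_lt.ne'
  -- a minimal normal subgroup
  have hfin : {M : Subgroup G | M.Normal ∧ M ≠ ⊥ ∧ M ≤ N}.Finite := Set.toFinite _
  obtain ⟨V, ⟨hVn, hV1, hVN⟩, hMmin⟩ := hfin.exists_minimal ⟨N, hNn, hN1, le_rfl⟩
  have hmn : ∀ L : Subgroup G, L.Normal → L ≤ V → L = ⊥ ∨ L = V := by
    intro L hL hLM
    by_cases hL0 : L = ⊥
    · exact Or.inl hL0
    · exact Or.inr (le_antisymm hLM (hMmin ⟨hL, hL0, hLM.trans hVN⟩ hLM))
  -- the quotient
  have hcard : Nat.card (G ⧸ V) < Nat.card G := by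
    have h3 := Subgroup.card_eq_card_quotient_mul_card_subgroup V
    have h4 : 1 < Nat.card V := (Subgroup.one_lt_card_iff_ne_bot V).mpr hV1
    have h5 : 0 < Nat.card (G ⧸ V) := Nat.card_pos
    nlinarith
  have hf := QuotientGroup.mk'_surjective V
  have hNC : normalClosure ({QuotientGroup.mk' V x} : Set (G ⧸ V)) = N.map (QuotientGroup.mk' V) := by
    rw [hN, Subgroup.map_normalClosure _ _ hf, Set.image_singleton]
  have hbar : IsPiSubgroup π (N.map (QuotientGroup.mk' V)) := by
    rw [← hNC]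
    exact ih _ hcard _ _ (h.map hf) rfl
  have hcV : Nat.card (V.subgroupOf N) = Nat.card V := Nat.card_congr (subgroupOfEquivOfLe hVN).toEquiv
  have hidx : (V.subgroupOf N).index = Nat.card (N.map (QuotientGroup.mk' V)) := by
    have h1 : ((QuotientGroup.mk' V).subgroupMap N).ker = V.subgroupOf N := by
      ext y
      rw [MonoidHom.mem_ker, mem_subgroupOf, ← QuotientGroup.eq_one_iff (N := V) (y : G)]
      exact ⟨fun h => congrArg Subtype.val h, fun h => Subtype.ext h⟩
    rw [← h1, Subgroup.index_ker, MonoidHom.range_eq_top.2 ((QuotientGroup.mk' V).subgroupMap_surjective N),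
      Subgroup.card_top]
  have hcN : Nat.card N = Nat.card V * Nat.card (N.map (QuotientGroup.mk' V)) := by
    rw [← hidx, ← hcV, Subgroup.card_mul_index]
  by_cases hVπ : IsPiSubgroup π V
  · intro q hq hd
    rw [hcN] at hd
    rcases (hq.dvd_mul).1 hd with h1 | h1
    · exact hVπ q hq h1
    · exact hbar q hq h1
  exfalso
  by_cases hab : ∀ a ∈ V, ∀ b ∈ V, Commute a b
  · -- the abelian case
    obtain ⟨p, hp, hVp, -⟩ := Lib.MinNormalNonabelian.abelian_structure V hV1 hmn hab
    have hpf : Fact p.Prime := ⟨hp⟩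
    have hpπ : p ∉ π := by
      intro hpπ
      apply hVπ
      intro q hq hd
      obtain ⟨k, hk⟩ := IsPGroup.iff_card.1 hVp
      rw [hk] at hd
      rw [(Nat.prime_dvd_prime_iff_eq hq hp).1 (hq.dvd_of_dvd_pow hd)]
      exact hpπ
    have hpd : ∀ S : Subgroup G, IsPiSubgroup π S → ¬ p ∣ Nat.card S := fun S hS hd => hpπ (hS p hp hd)
    have hcomm : ∀ v ∈ V, x * v = v * x := by
      intro v hv
      have h1 : x * (v * x⁻¹ * v⁻¹) ∈ closure ({1 * x * 1⁻¹, v * x * v⁻¹} : Set G) := by
        refine mul_mem (Subgroup.subset_closure (by simp)) ?_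
        have h2 := inv_mem (Subgroup.subset_closure (show v * x * v⁻¹ ∈ ({1 * x * 1⁻¹, v * x * v⁻¹} : Set G) by simp))
        convert h2 using 1
        group
      have h2 : x * (v * x⁻¹ * v⁻¹) ∈ V := by
        have h3 := mul_mem (hVn.conj_mem v hv x) (inv_mem hv)
        convert h3 using 1
        group
      have h3 : orderOf (x * (v * x⁻¹ * v⁻¹)) ∣ Nat.card ↥(closure ({1 * x * 1⁻¹, v * x * v⁻¹} : Set G)) :=
        Subgroup.orderOf_dvd_natCard _ h1
      have h4 : orderOf (x * (v * x⁻¹ * v⁻¹)) = 1 := by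
        obtain ⟨k, hk⟩ := (hVp ⟨_, h2⟩)
        have h5 : (x * (v * x⁻¹ * v⁻¹)) ^ p ^ k = 1 := congrArg Subtype.val hk
        refine Nat.eq_one_of_dvd_coprimes (Nat.Coprime.pow_left k ((Nat.Prime.coprime_iff_not_dvd hp).2
          (hpd _ (hx 1 v)))) (orderOf_dvd_of_pow_eq_one h5) h3
      rw [orderOf_eq_one_iff] at h4
      calc x * v = (x * (v * x⁻¹ * v⁻¹)) * (v * x) := by group
        _ = v * x := by rw [h4, one_mul]
    have hcen : N ≤ centralizer (V : Set G) := by
      have : (centralizer (V : Set G)).Normal := inferInstance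
      refine normalClosure_le_normal ?_
      rw [Set.singleton_subset_iff]
      exact mem_centralizer_iff.2 fun v hv => (hcomm v hv).symm
    have hcop : Nat.Coprime (Nat.card (V.subgroupOf N)) (V.subgroupOf N).index := by
      rw [hidx, hcV]
      obtain ⟨k, hk⟩ := IsPGroup.iff_card.1 hVp
      rw [hk]
      exact Nat.Coprime.pow_left k ((Nat.Prime.coprime_iff_not_dvd hp).2 fun hd => hpπ (hbar p hp hd))
    obtain ⟨H, hH⟩ := Subgroup.exists_right_complement'_of_coprime hcop
    have hkey : ∀ y : N, (∃ g : G, (y : G) = g * x * g⁻¹) → y ∈ H := by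
      rintro y ⟨g, hg⟩
      obtain ⟨⟨v, h⟩, hvh⟩ := hH.2 y
      have hvh' : (v : N) * h = y := hvh
      have hc : Commute (v : N) (h : N) := by
        apply Subtype.ext
        exact (mem_centralizer_iff.1 (hcen (h : N).2) _ (mem_subgroupOf.1 v.2))
      have h1 : (h : N) ^ Nat.card H = 1 := by
        have := pow_card_eq_one' (x := h)
        exact congrArg Subtype.val this
      have h2 : (v : N) ^ (Nat.card H * orderOf y) = 1 := by
        have h3 : y ^ (Nat.card H * orderOf y) = 1 := by rw [mul_comm, pow_mul, pow_orderOf_eq_one, one_pow]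
        rw [← hvh', hc.mul_pow, pow_mul (h : N), h1, one_pow, mul_one] at h3
        rwa [hvh'] at h3
      have h3 : ¬ p ∣ Nat.card H * orderOf y := by
        intro hd
        rcases (hp.dvd_mul).1 hd with h4 | h4
        · rw [← hH.symm.index_eq_card, hidx] at h4
          exact hpπ (hbar p hp h4)
        · refine hpd _ (hx g g) (h4.trans ?_)
          rw [← Subgroup.orderOf_coe, hg]
          exact Subgroup.orderOf_dvd_natCard _ (Subgroup.subset_closure (by simp))
      obtain ⟨k, hk⟩ := hVp ⟨((v : N) : G), mem_subgroupOf.1 v.2⟩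
      have h4 : (v : N) ^ p ^ k = 1 := Subtype.ext (congrArg (Subtype.val : V → G) hk)
      have h5 : orderOf (v : N) = 1 := Nat.eq_one_of_dvd_coprimes (Nat.Coprime.pow_left k
        ((Nat.Prime.coprime_iff_not_dvd hp).2 h3)) (orderOf_dvd_of_pow_eq_one h4) (orderOf_dvd_of_pow_eq_one h2)
      rw [orderOf_eq_one_iff] at h5
      rw [← hvh', h5, one_mul]
      exact h.2
    have hNH : N ≤ H.map N.subtype := by
      show closure (Group.conjugatesOfSet ({x} : Set G)) ≤ _
      rw [closure_le]
      intro y hy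
      obtain ⟨a, ha, hay⟩ := Group.mem_conjugatesOfSet_iff.1 hy
      rw [Set.mem_singleton_iff] at ha
      rw [ha] at hay
      obtain ⟨g, hg⟩ := isConj_iff.1 hay
      exact ⟨⟨y, Subgroup.conjugatesOfSet_subset_normalClosure hy⟩, hkey _ ⟨g, hg.symm⟩, rfl⟩
    apply hV1
    rw [eq_bot_iff]
    intro v hv
    obtain ⟨h, hh, e⟩ := hNH (hVN hv)
    have h1 : h ∈ V.subgroupOf N ⊓ H := ⟨mem_subgroupOf.2 (by rw [← e] at hv; exact hv), hh⟩
    rw [hH.disjoint.eq_bot, mem_bot] at h1
    rw [mem_bot, ← e, h1]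
    rfl
  · -- the non-abelian case
    obtain ⟨-, hind, hsup, hsi, hz, hcj⟩ := Lib.MinNormalNonabelian.nonabelian_structure V hmn hab
    -- every factor has order divisible by every prime divisor of `|V|`
    have hA : ∀ s : ℕ, s.Prime → s ∣ Nat.card V → ∀ T ∈ Lib.MinNormalNonabelian.minSet V, s ∣ Nat.card T := by
      intro s hs hsV T hT
      by_contra hnT
      have h1 : V ≤ coreIn s V := by
        conv_lhs => rw [← hsup]
        refine sSup_le fun S hS => ?_
        obtain ⟨g, rfl⟩ := hcj T hT S hS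
        refine le_coreIn hS.1 ?_ ?_
        · intro a ha n hn
          exact (mem_normalizer_iff.1 (hS.2.2.1 ha) n).1 hn
        · rw [Subgroup.card_map_of_injective (MulAut.conj g).injective]
          exact ((Nat.Prime.coprime_iff_not_dvd hs).2 hnT).symm
      have h2 : (Nat.card V).Coprime s :=
        (coreIn_coprime (s := s) V).coprime_dvd_left (Subgroup.card_dvd_of_le h1)
      exact hs.one_lt.ne' (Nat.Coprime.eq_one_of_dvd h2.symm hsV)
    obtain ⟨s0, hs0, hs0V, hs0π⟩ : ∃ s : ℕ, s.Prime ∧ s ∣ Nat.card V ∧ s ∉ π := by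
      by_contra hcon
      push Not at hcon
      exact hVπ fun q hq hd => hcon q hq hd
    -- `x` normalises the factors
    have hB : ∀ T ∈ Lib.MinNormalNonabelian.minSet V, x ∈ normalizer (T : Set G) := by
      intro T hT
      by_contra hnx
      have hT' := Lib.MinNormalNonabelian.map_conj_mem_minSet hT x
      set T' := T.map (MulAut.conj x).toMonoidHom with hT'def
      have hne : T' ≠ T := fun h1 => hnx (H459.Reduce.mem_normalizer_of_cj h1)
      have hdis : Disjoint T T' := (hind hT).mono_right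
        (le_sSup (show T' ∈ Lib.MinNormalNonabelian.minSet V \ {T} from ⟨hT', hne⟩))
      have hs0f : Fact s0.Prime := ⟨hs0⟩
      obtain ⟨⟨g, hg⟩, hgo⟩ := exists_prime_orderOf_dvd_card' s0 (hA s0 hs0 hs0V T hT)
      rw [Subgroup.orderOf_mk] at hgo
      have hgV : g ∈ V := hT.1 hg
      have ha : x * g * x⁻¹ ∈ T' := ⟨g, hg, rfl⟩
      have hcomm : ∀ a ∈ T, ∀ b ∈ T', a * b = b * a := by
        intro a ha b hb
        have h1 : a * b * a⁻¹ * b⁻¹ ∈ T := by
          have h2 := (mem_normalizer_iff.1 (hT.2.2.1 (hT'.1 hb)) a⁻¹).1 (inv_mem ha)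
          have h3 := mul_mem ha h2
          have e : a * b * a⁻¹ * b⁻¹ = a * (b * a⁻¹ * b⁻¹) := by group
          rwa [e]
        have h2 : a * b * a⁻¹ * b⁻¹ ∈ T' := by
          have h2 := (mem_normalizer_iff.1 (hT'.2.2.1 (hT.1 ha)) b).1 hb
          exact mul_mem h2 (inv_mem hb)
        have h3 : a * b * a⁻¹ * b⁻¹ ∈ T ⊓ T' := ⟨h1, h2⟩
        rw [hdis.eq_bot, mem_bot] at h3
        calc a * b = (a * b * a⁻¹ * b⁻¹) * (b * a) := by group
          _ = b * a := by rw [h3, one_mul]
      set w := x * g * x⁻¹ * g⁻¹ with hw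
      have hwcl : w ∈ closure ({1 * x * 1⁻¹, g * x * g⁻¹} : Set G) := by
        have h1 : w = (1 * x * 1⁻¹) * (g * x * g⁻¹)⁻¹ := by rw [hw]; group
        rw [h1]
        exact mul_mem (Subgroup.subset_closure (by simp)) (inv_mem (Subgroup.subset_closure (by simp)))
      have hwn : s0 ∣ orderOf w := by
        rw [← hgo]
        apply orderOf_dvd_of_pow_eq_one
        have h1 : Commute (x * g * x⁻¹) g⁻¹ := (hcomm g⁻¹ (inv_mem hg) _ ha).symm
        have h2 : (x * g * x⁻¹) ^ orderOf w * (g⁻¹) ^ orderOf w = 1 := by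
          rw [← h1.mul_pow, ← hw, pow_orderOf_eq_one]
        have h3 : g ^ orderOf w ∈ T ⊓ T' := by
          refine ⟨pow_mem hg _, ?_⟩
          have h4 : g ^ orderOf w = (x * g * x⁻¹) ^ orderOf w := by
            rw [inv_pow] at h2
            exact (mul_inv_eq_one.1 h2).symm
          rw [h4]
          exact pow_mem ha _
        rw [hdis.eq_bot, mem_bot] at h3
        exact h3
      exact hs0π (hx 1 g s0 hs0 (hwn.trans (Subgroup.orderOf_dvd_natCard _ hwcl)))
    -- `x` acts nontrivially on a factor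
    obtain ⟨T, hT, t0, ht0, hne0⟩ : ∃ T ∈ Lib.MinNormalNonabelian.minSet V, ∃ t ∈ T, x * t ≠ t * x := by
      by_contra hcon
      push Not at hcon
      apply hab
      have h1 : N ≤ centralizer (V : Set G) := by
        have : (centralizer (V : Set G)).Normal := inferInstance
        refine normalClosure_le_normal ?_
        rw [Set.singleton_subset_iff]
        refine mem_centralizer_iff.2 fun v hv => ?_
        have h2 : V ≤ centralizer ({x} : Set G) := by
          conv_lhs => rw [← hsup]
          refine sSup_le fun S hS => ?_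
          intro t ht
          rw [mem_centralizer_iff]
          rintro _ rfl
          exact hcon S hS t ht
        exact (mem_centralizer_iff.1 (h2 hv) x rfl).symm
      intro a ha b hb
      exact (mem_centralizer_iff.1 (h1 (hVN ha)) b hb).symm
    have hTs := hsi T hT
    have hmx := hB T hT
    have hna : ¬ IsMulCommutative T := by
      intro hc
      obtain ⟨z, hz1⟩ := exists_ne (1 : T)
      exact hz1 (Subtype.ext (hz T hT z z.2 fun t ht => congrArg Subtype.val (hc.is_comm.comm z ⟨t, ht⟩)))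
    set NT := normalizer (T : Set G) with hNT
    set ρ : NT →* MulAut T := T.normalizerMonoidHom with hρ
    have hTN : T ≤ NT := le_normalizer
    have hρT : ∀ l : T, ρ ⟨l, hTN l.2⟩ = MulAut.conj l := by
      intro l
      ext y
      rfl
    set α : MulAut T := ρ ⟨x, hmx⟩ with hα
    have hα1 : α ≠ 1 := by
      intro h2
      apply hne0
      have h3 : ((α ⟨t0, ht0⟩ : T) : G) = t0 := by rw [h2]; rfl
      have h4 : ((α ⟨t0, ht0⟩ : T) : G) = x * t0 * x⁻¹ := rfl
      rw [h4] at h3
      calc x * t0 = (x * t0 * x⁻¹) * x := by group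
        _ = t0 * x := by rw [h3]
    have hn0 : orderOf α ≠ 1 := fun h1 => hα1 (orderOf_eq_one_iff.1 h1)
    obtain ⟨p, hp, hpd⟩ := Nat.exists_prime_and_dvd hn0
    set k := orderOf α / p with hk
    set y := x ^ k with hy
    have hmy : y ∈ NT := pow_mem hmx k
    set β : MulAut T := ρ ⟨y, hmy⟩ with hβ
    have hβα : β = α ^ k := by
      rw [hβ, hα, ← map_pow]
      rfl
    have hβp : orderOf β = p := by
      rw [hβα, hk]
      exact orderOf_pow_orderOf_div (orderOf_pos α).ne' hpd
    have hyH : HypN π (mm r) y := h.pow k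
    have hyl : ∀ l : T, ((β l : T) : G) = y * l * y⁻¹ := fun l => rfl
    have hpπ : p ∈ π := by
      refine hx 1 1 p hp ((hpd.trans ?_).trans (Subgroup.orderOf_dvd_natCard _
        (Subgroup.subset_closure (show x ∈ ({1 * x * 1⁻¹, 1 * x * 1⁻¹} : Set G) by simp))))
      have h1 : orderOf α ∣ orderOf (⟨x, hmx⟩ : NT) := orderOf_map_dvd ρ _
      rwa [Subgroup.orderOf_mk] at h1
    -- the induction hypothesis
    have hPC : ∀ s : ℕ, s.Prime → s ∉ π → PC s β := by
      intro s hs hsπ M hM hMx m hm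
      set M' : Subgroup G := M.map T.subtype with hM'
      set H : Subgroup G := M' ⊔ zpowers y with hH
      have hyH' : y ∈ H := mem_sup_right (mem_zpowers y)
      have hM'x : ∀ g ∈ M', y * g * y⁻¹ ∈ M' := by
        rintro _ ⟨l, hl, rfl⟩
        exact ⟨β l, hMx l hl, hyl l⟩
      have hHn : H ≤ normalizer (M' : Set G) := by
        refine sup_le le_normalizer ?_
        rw [zpowers_le]
        refine H459.Reduce.mem_normalizer_of_cj ?_
        have hle : H459.Reduce.cj y M' ≤ M' := by
          rintro _ ⟨g, hg, rfl⟩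
          exact hM'x g hg
        exact Subgroup.eq_of_le_of_card_ge hle (le_of_eq (Subgroup.card_map_of_injective
          (K := M') (MulAut.conj y).injective).symm)
      have hHt : H ≠ ⊤ := by
        intro hHt
        have hMn : M'.Normal := by
          rw [hHt] at hHn
          exact Subgroup.normalizer_eq_top_iff.1 (top_le_iff.1 hHn)
        have hMT : M' ≤ T := map_subtype_le _
        rcases hmn M' hMn (hMT.trans hT.1) with h1 | h1
        · have h2 : (⊤ : Subgroup G) = zpowers y := by
            rw [← hHt, hH, h1, bot_sup_eq]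
          apply hab
          intro a _ b _
          obtain ⟨i, rfl⟩ := mem_zpowers_iff.1 (show a ∈ zpowers y by rw [← h2]; exact mem_top _)
          obtain ⟨j, rfl⟩ := mem_zpowers_iff.1 (show b ∈ zpowers y by rw [← h2]; exact mem_top _)
          show y ^ i * y ^ j = y ^ j * y ^ i
          rw [← zpow_add, ← zpow_add, add_comm]
        · apply hM
          rw [eq_top_iff]
          intro l _
          have h2 : (l : G) ∈ M' := by rw [h1]; exact hT.1 l.2
          obtain ⟨l', hl', h3⟩ := h2
          have h4 : l' = l := Subtype.ext h3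
          rwa [← h4]
      have hcardH : Nat.card H < Nat.card G :=
        lt_of_le_of_ne (Subgroup.card_le_card_group H) fun h => hHt (Subgroup.eq_top_of_card_eq H h)
      have hyH2 : HypN π (mm r) (⟨y, hyH'⟩ : H) := HypN.subtype (x := ⟨y, hyH'⟩) hyH
      have hih := ih _ hcardH H ⟨y, hyH'⟩ hyH2 rfl
      set O := normalClosure ({(⟨y, hyH'⟩ : H)} : Set H) with hO
      have hOn : O.Normal := normalClosure_normal
      have hyO : (⟨y, hyH'⟩ : H) ∈ O := subset_normalClosure rfl
      have hMH : ∀ m ∈ M, (m : G) ∈ H := fun m hm => mem_sup_left ⟨m, hm, rfl⟩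
      -- the subgroup of `M`
      set O' : Subgroup T := (O.map H.subtype).subgroupOf T with hO'
      have hle : M ⊓ O' ≤ coreIn s M := by
        refine le_coreIn inf_le_left ?_ ?_
        · rintro g hg n ⟨hn1, hn2⟩
          have hgn : g * n * g⁻¹ ∈ M := mul_mem (mul_mem hg hn1) (inv_mem hg)
          suffices h9 : g * n * g⁻¹ ∈ O' from ⟨hgn, h9⟩
          obtain ⟨o, ho, hoe⟩ := mem_subgroupOf.1 hn2
          refine mem_subgroupOf.2 ⟨⟨(g : G), hMH g hg⟩ * o * ⟨(g : G), hMH g hg⟩⁻¹, hOn.conj_mem o ho _, ?_⟩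
          have hoe' : (o : G) = n := hoe
          show (g : G) * (o : G) * (g : G)⁻¹ = ((g * n * g⁻¹ : T) : G)
          rw [hoe']
          rfl
        · rw [Nat.Coprime, Nat.gcd_comm]
          refine (Nat.Prime.coprime_iff_not_dvd hs).2 fun hd => hsπ (hih s hs ?_)
          have h1 : Nat.card ↥(M ⊓ O') ∣ Nat.card O' := Subgroup.card_dvd_of_le inf_le_right
          have h2 : Nat.card O' ∣ Nat.card (O.map H.subtype) := by
            rw [hO', ← inf_subgroupOf_right, Nat.card_congr (subgroupOfEquivOfLe inf_le_right).toEquiv]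
            exact Subgroup.card_dvd_of_le inf_le_left
          have h3 : Nat.card (O.map H.subtype) = Nat.card O := Subgroup.card_map_of_injective H.subtype_injective
          rw [← h3]
          exact (hd.trans h1).trans h2
      apply hle
      have hmm : m⁻¹ * β m ∈ M := mul_mem (inv_mem hm) (hMx m hm)
      suffices h9 : m⁻¹ * β m ∈ O' from ⟨hmm, h9⟩
      refine mem_subgroupOf.2 ?_
      refine ⟨(⟨(m : G), hMH m hm⟩⁻¹ * ⟨y, hyH'⟩ * (⟨(m : G), hMH m hm⟩⁻¹)⁻¹) * (⟨y, hyH'⟩)⁻¹,
        mul_mem (hOn.conj_mem _ hyO _) (inv_mem hyO), ?_⟩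
      show ((m : G)⁻¹ * y * ((m : G)⁻¹)⁻¹) * y⁻¹ = (((m : T)⁻¹ * β m : T) : G)
      rw [Subgroup.coe_mul, hyl]
      push_cast
      group
    have hFC : ∀ s : ℕ, s.Prime → s ∉ π → FC s (mm r) β := by
      rintro s hs hsπ z ⟨f, hz⟩ hd
      set S : Subgroup G := closure (Set.range fun i => (f i : G) * y * (f i : G)⁻¹) with hS
      have h1 : closure (Set.range fun i => H216.Pi.cj β (f i)) ≤ (S.subgroupOf NT).map ρ := by
        rw [closure_le]
        rintro _ ⟨i, rfl⟩
        have hi : (f i : G) * y * (f i : G)⁻¹ ∈ NT := mul_mem (mul_mem (hTN (f i).2) hmy) (inv_mem (hTN (f i).2))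
        refine ⟨⟨_, hi⟩, mem_subgroupOf.2 (Subgroup.subset_closure ⟨i, rfl⟩), ?_⟩
        have : (⟨_, hi⟩ : NT) = ⟨f i, hTN (f i).2⟩ * ⟨y, hmy⟩ * ⟨f i, hTN (f i).2⟩⁻¹ := rfl
        rw [this, map_mul, map_mul, map_inv, hρT]
        rfl
      obtain ⟨w, hw, rfl⟩ := h1 hz
      have h2 : orderOf (ρ w) ∣ Nat.card S := by
        refine (orderOf_map_dvd ρ w).trans ?_
        rw [← Subgroup.orderOf_coe]
        exact Subgroup.orderOf_dvd_natCard _ (mem_subgroupOf.1 hw)
      exact hsπ (hyH (fun i => (f i : G)) s hs (hd.trans h2))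
    -- the choice of `s`
    have hpr : orderOf β ≠ r := by rw [hβp]; rintro rfl; exact hrπ hpπ
    by_cases hrT : r ∣ Nat.card T
    · exact core T hna r r β hr hr hr3 le_rfl (Or.inl rfl) hrT (hβp ▸ hp) hpr hpr (hPC r hr hrπ) (hFC r hr hrπ)
    · refine core T hna s0 r β hs0 hr hr3 (hmin s0 hs0 hs0π) (Or.inr hrT) (hA s0 hs0 hs0V T hT) (hβp ▸ hp) ?_ hpr
        (hPC s0 hs0 hs0π) (hFC s0 hs0 hs0π)
      rw [hβp]
      rintro rfl
      exact hs0π hpπ

theorem mem_piCore {G : Type u} [Group G] {π : Set ℕ} {x : G} (h : IsPiSubgroup π (normalClosure ({x} : Set G))) :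
    x ∈ piCore π G :=
  (le_sSup (show normalClosure ({x} : Set G) ∈ {N : Subgroup G | N.Normal ∧ ∀ p : ℕ, p.Prime → p ∣ Nat.card N → p ∈ π}
    from ⟨normalClosure_normal, h⟩) : normalClosure ({x} : Set G) ≤ piCore π G) (subset_normalClosure rfl)

/-- **S4324 from the rows** (`odd` is the theorem S3877). -/
theorem main
    (odd : ∀ {G : Type u} [Group G] [Finite G] (π : Set ℕ) (_ : 2 ∉ π) (x : G)
      (_ : ∀ g h : G, IsPiSubgroup π (Subgroup.closure ({g * x * g⁻¹, h * x * h⁻¹} : Set G))),
      IsPiSubgroup π (Subgroup.normalClosure ({x} : Set G)))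
    (core : ∀ (K : Type u) [Group K] [Finite K] [IsSimpleGroup K], ¬ IsMulCommutative K → RowP K)
    {G : Type u} [Group G] [Finite G]
    (π : Set ℕ) (r : ℕ) (hr : r.Prime) (hrπ : r ∉ π) (hmin : ∀ q : ℕ, q.Prime → q ∉ π → r ≤ q) (x : G)
    (hx : ∀ f : Fin (max 11 (2 * (r - 2))) → G,
      IsPiSubgroup π (Subgroup.closure (Set.range fun i => f i * x * (f i)⁻¹))) :
    x ∈ piCore π G := by
  have h : HypN π (mm r) x := hx
  apply mem_piCore
  rcases eq_or_ne r 2 with h2 | h2
  · subst h2
    exact odd π hrπ x (h.pairs (le_trans (by norm_num) (mm_ge 2)))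
  · have hr3 : 3 ≤ r := by have := hr.two_le; omega
    exact reduce hr hr3 hrπ hmin core G x h

end Cfsg.Agent.H470.PiRad
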