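import Cfsg.Agent.H470.PiRad.NRE8
import Cfsg.Agent.H320.Cyc.LeftE8

/-!
# S4324: the row `NR` of `E₈(q)` from the residue `E₆ × A₁` (helper470, with helper320's `left1_false`)
-/

set_option autoImplicit false
set_option linter.unusedSectionVars false

namespace Cfsg.Agent.H470.PiRad.NRE8

open Cfsg Subgroup Cfsg.Agent.H216.Pi Cfsg.Agent.H470.PiRad.CosetSys Cfsg.Agent.H470.PiRad.Mod
open Cfsg.Lie Cfsg.Agent.H470.PiRad.NRow

/-- the residue `E₆ × A₁` -/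
def Left6 (F : Type) [Field F] [Fintype F] (t : ℕ) [Fact t.Prime] [CharP F t] : Prop :=
  ∀ {x : MulAut ↥(chevE8.group F)} {s m : ℕ}, s.Prime → 3 ≤ s → s ≠ t → s ∣ Nat.card ↥(chevE8.group F) →
    orderOf ((Fintype.card F : ℕ) : ZMod s) = 10 → (orderOf x).Prime → orderOf x ≠ s → 11 ≤ m →
    TP (Inst.dat_E8 F t).bn x → PC s x → FC s m x → (Inst.dat_E8 F t).F x (Finset.univ.erase 6) → False

/-- **`E₈(q)`** from the residue `E₆ × A₁` -/
theorem nr_of6 {F : Type} [Field F] [Fintype F] {t : ℕ} [Fact t.Prime] [hC : CharP F t]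
    [IsSimpleGroup ↥(chevE8.group F)] (H6 : Left6 F t) : NR t ↥(chevE8.group F) := by
  intro s r x hs hr hr3 hrs _ hst hd hP hx hxs _ hPC hFC
  obtain ⟨P⟩ : Nonempty (Sylow s ↥(chevE8.group F)) := inferInstance
  have he := H320.Cyc.ord_E8 (t := t) (MulEquiv.refl _) hs (hr3.trans hrs) hst P (hP P)
  have hTP := tp_E8 (t := t) x
  have hs3 := hr3.trans hrs
  rcases tpr_E8 hs hs3 hst hd rfl he hx (le_trans (by norm_num) (mm_ge r)) hPC hFC with ⟨h1, h2⟩ | ⟨h1, h2⟩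
  · exact H320.Cyc.LeftE8.left1_false t hs hs3 hst hd h1 hx hxs (mm_ge r) hTP hPC hFC h2
  · exact H6 hs hs3 hst hd h1 hx hxs (mm_ge r) hTP hPC hFC h2

theorem NR_E8_of (H6 : ∀ (F : Type) [Field F] [Fintype F] (t : ℕ) [Fact t.Prime] [CharP F t]
    [IsSimpleGroup ↥(chevE8.group F)], Left6 F t) (t : ℕ) (K : Type) [Group K] [Finite K] [IsSimpleGroup K] (ht : t.Prime)
    (h : ∃ (F : Type) (_ : Field F) (_ : Fintype F) (_ : CharP F t), Nonempty (K ≃* Lie.chevE8.group F)) : NR t K := by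
  obtain ⟨F, _, _, hC, ⟨e⟩⟩ := h
  have : Fact t.Prime := ⟨ht⟩
  have : IsSimpleGroup ↥(Lie.chevE8.group F) := (MulEquiv.isSimpleGroup_congr e).1 inferInstance
  exact nr_congr e (nr_of6 (H6 F t))

end Cfsg.Agent.H470.PiRad.NRE8
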